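import Groth.Agent.BddFinBirat.LineAlgebra
import Groth.Agent.GrpSchLib.LineGroups
import Groth.Agent.GrpSchLib.AffineHopf
import Groth.Agent.GrpSchLib.Action
import Mathlib.RingTheory.Localization.AtPrime.Basic

/-!
# The rational cocycle of an action of a line group
-/

universe u

open CategoryTheory MonoidalCategory CartesianMonoidalCategory MonObj AlgebraicGeometry
open Polynomial

namespace Groth.Agent.BddFinBirat

open GrpSchLib Kunneth AffineHopf LineGroups

variable {K : Type u} [Field K] {G X : Over (Spec (CommRingCat.of K))} [GrpObj G]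

/-- The value of a coordinate function at a point. -/
noncomputable def co (t : Fn G) {C : Type u} [CommRing C] [Algebra K C] (g : sp K C ⟶ G) : C :=
  (spEquiv (k := K) C).symm (ev g t)

theorem co_comp (t : Fn G) {C D : Type u} [CommRing C] [Algebra K C] [CommRing D] [Algebra K D] (θ : C →ₐ[K] D)
    (g : sp K C ⟶ G) : co t (spMap θ ≫ g) = θ (co t g) := by
  apply (spEquiv (k := K) D).injective
  rw [co, AlgEquiv.apply_symm_apply, ← ev_ev]
  have h : ∀ c : C, ev (spMap θ) (spEquiv (k := K) C c) = spEquiv (k := K) D (θ c) := fun c =>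
    (ConcreteCategory.congr_hom (Scheme.ΓSpecIso_inv_naturality (CommRingCat.ofHom θ.toRingHom)) c).symm
  rw [← h, co, AlgEquiv.apply_symm_apply]

/-- A coordinate on a group scheme isomorphic to the line or the punctured line. -/
structure LineCoord (G : Over (Spec (CommRingCat.of K))) [GrpObj G] where
  t : Fn G
  op : ∀ {C : Type u} [CommRing C], C → C → C
  e : K
  op_e : ∀ {C : Type u} [CommRing C] [Algebra K C] (c : C), op c (algebraMap K C e) = c
  exists_pt : ∀ {C : Type u} [CommRing C] [Algebra K C] (c : C), (e = 0 ∨ IsUnit c) →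
    ∃ g : sp K C ⟶ G, co t g = c
  ext : ∀ {C : Type u} [CommRing C] [Algebra K C] {g g' : sp K C ⟶ G}, co t g = co t g' → g = g'
  co_mul : ∀ {C : Type u} [CommRing C] [Algebra K C] (g g' : sp K C ⟶ G), co t (g * g') = op (co t g) (co t g')

namespace LineCoord

variable (L : LineCoord G)

theorem co_eq_e_iff {C : Type u} [CommRing C] [Algebra K C] (he : L.e = 0 ∨ L.e = 1) (g : sp K C ⟶ G) :
    co L.t g = algebraMap K C L.e ↔ g = 1 := by
  obtain ⟨g₀, hg₀⟩ := L.exists_pt (algebraMap K C L.e) (he.imp id fun h => by rw [h, map_one]; exact isUnit_one)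
  have : g₀ = 1 := by
    have h := L.co_mul g₀ g₀
    rw [hg₀, L.op_e, ← hg₀] at h
    exact mul_left_cancel (a := g₀) (b := g₀) (c := 1) ((L.ext h).trans (_root_.mul_one g₀).symm)
  subst this
  exact ⟨fun h => L.ext (h.trans hg₀.symm), fun h => by rw [h, hg₀]⟩

end LineCoord

variable (a : AlgGrp.Action G X) {F : Type u} [Field F] [Algebra K F] (x₀ : sp K F ⟶ X)

/-- Field points over the given point correspond to maps of `F`. -/
def Factors : Prop :=
  Mono x₀.left ∧
    (∀ (R : Type u) [CommRing R] [IsLocalRing R] [Algebra K R] (y : sp K R ⟶ X),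
      y.left (IsLocalRing.closedPoint R) = x₀.left (IsLocalRing.closedPoint F) → ∃ φ : F →ₐ[K] R, spMap φ ≫ x₀ = y) ∧
    ∀ x : X.left, x ⤳ x₀.left (IsLocalRing.closedPoint F) → x = x₀.left (IsLocalRing.closedPoint F)

variable {a x₀}

theorem Factors.algHom_ext (hx : Factors x₀) {R : Type u} [CommRing R] [Algebra K R] {φ φ' : F →ₐ[K] R}
    (h : spMap φ ≫ x₀ = spMap φ' ≫ x₀) : φ = φ' := by
  haveI := hx.1
  have h' : (spMap φ).left = (spMap φ').left := by
    rw [← cancel_mono x₀.left, ← Over.comp_left, ← Over.comp_left, h]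
  exact AlgHom.ext fun c => congr($(Spec.map_injective h') c)

variable (a x₀)

/-- `ψ` is the pullback along the action at the generic point of the group. -/
def IsPsi (L : LineCoord G) (ψ : F →ₐ[K] RatFunc F) : Prop :=
  ∀ g : sp K (RatFunc F) ⟶ G, co L.t g = RatFunc.X →
    lift g (spMap (IsScalarTower.toAlgHom K F (RatFunc F)) ≫ x₀) ≫ a.act = spMap ψ ≫ x₀

variable {a x₀}

theorem exists_psi (hx : Factors x₀) (L : LineCoord G) (he : L.e = 0 ∨ L.e = 1) :
    ∃ ψ : F →ₐ[K] RatFunc F, IsPsi a x₀ L ψ ∧ ∀ f : F, (ψ f).denom.eval (algebraMap K F L.e) ≠ 0 ∧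
      f = (ψ f).num.eval (algebraMap K F L.e) / (ψ f).denom.eval (algebraMap K F L.e) := by
  classical
  set e := algebraMap K F L.e with hedef
  let m : Ideal F[X] := RingHom.ker (evalRingHom e)
  haveI : m.IsPrime := RingHom.ker_isPrime _
  let A := Localization.AtPrime m
  have hne : ∀ p : m.primeCompl, IsUnit (evalRingHom e (p : F[X])) := fun p => Ne.isUnit fun h => p.2 h
  let ε : A →ₐ[K] F := IsLocalization.liftAlgHom (M := m.primeCompl) (f := (Polynomial.aeval e).restrictScalars K)
    (fun p => by simpa using hne p)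
  have hjne : ∀ p : m.primeCompl, IsUnit ((IsScalarTower.toAlgHom K F[X] (RatFunc F)) (p : F[X])) := fun p => by
    refine Ne.isUnit ?_
    rw [IsScalarTower.coe_toAlgHom', ne_eq, map_eq_zero_iff _ (RatFunc.algebraMap_injective _)]
    intro h
    exact p.2 (by rw [h]; exact map_zero _)
  let j : A →ₐ[K] RatFunc F := IsLocalization.liftAlgHom (M := m.primeCompl) (f := IsScalarTower.toAlgHom K F[X] (RatFunc F)) hjne
  have hεj : ∀ p : F[X], ε (algebraMap F[X] A p) = p.eval e ∧ j (algebraMap F[X] A p) = algebraMap F[X] (RatFunc F) p :=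
    fun p => ⟨by simp [ε, IsLocalization.lift_eq], by simp [j, IsLocalization.lift_eq]⟩
  -- the point of the group
  obtain ⟨gA, hgA⟩ := L.exists_pt (algebraMap F[X] A Polynomial.X) (he.imp id fun h => by
    refine IsLocalization.map_units A (⟨Polynomial.X, fun hm => ?_⟩ : m.primeCompl)
    have : e = 0 := by simpa [m] using hm
    rw [hedef, h, map_one] at this
    exact one_ne_zero this)
  let ιA : F →ₐ[K] A := IsScalarTower.toAlgHom K F A
  let yA := lift gA (spMap ιA ≫ x₀) ≫ a.act
  have hε1 : spMap ε ≫ gA = 1 := by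
    rw [← L.co_eq_e_iff he, co_comp, hgA, (hεj _).1, eval_X]
  have hιε : ε.comp ιA = AlgHom.id K F := AlgHom.ext fun c => by
    show ε (algebraMap F A c) = c
    rw [IsScalarTower.algebraMap_apply F F[X] A, (hεj _).1]
    simp
  have hy0 : spMap ε ≫ yA = x₀ := by
    rw [← Category.assoc, comp_lift, hε1, ← Category.assoc, spMap_comp, hιε, spMap_id, Category.id_comp,
      GrpSchLib.act_one]
  have hεloc : IsLocalHom ε.toRingHom := by
    refine ⟨fun z hz => ?_⟩
    obtain ⟨⟨p, s⟩, hps⟩ := IsLocalization.surj m.primeCompl z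
    have h1 : ε z * (s : F[X]).eval e = p.eval e := by
      have := congrArg ε hps
      rwa [map_mul, (hεj _).1, (hεj _).1] at this
    have hp : p ∈ m.primeCompl := by
      intro hp
      have hp0 : p.eval e = 0 := hp
      rw [hp0] at h1
      exact (mul_ne_zero (hz.ne_zero) ((hne s).ne_zero)) h1
    exact isUnit_of_mul_isUnit_left (hps ▸ IsLocalization.map_units A (⟨p, hp⟩ : m.primeCompl))
  have hclosed : (spMap ε).left (IsLocalRing.closedPoint F) = IsLocalRing.closedPoint A :=
    IsLocalRing.comap_closedPoint ε.toRingHom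
  have hyc : yA.left (IsLocalRing.closedPoint A) = x₀.left (IsLocalRing.closedPoint F) := by
    calc yA.left (IsLocalRing.closedPoint A) = yA.left ((spMap ε).left (IsLocalRing.closedPoint F)) := by rw [hclosed]
      _ = (spMap ε ≫ yA).left (IsLocalRing.closedPoint F) := rfl
      _ = _ := by rw [hy0]
  obtain ⟨φA, hφA⟩ := hx.2.1 A yA hyc
  have hεφ : ∀ f, ε (φA f) = f := fun f => by
    have : ε.comp φA = AlgHom.id K F := hx.algHom_ext (by rw [← spMap_comp, Category.assoc, hφA, hy0, spMap_id, Category.id_comp])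
    exact DFunLike.congr_fun this f
  refine ⟨j.comp φA, ?_, fun f => ?_⟩
  · intro g hg
    have hgj : g = spMap j ≫ gA := L.ext (by rw [co_comp, hgA, (hεj _).2, RatFunc.algebraMap_X, hg])
    have hι : j.comp ιA = IsScalarTower.toAlgHom K F (RatFunc F) := AlgHom.ext fun c => by
      show j (algebraMap F A c) = _
      rw [IsScalarTower.algebraMap_apply F F[X] A, (hεj _).2, ← IsScalarTower.algebraMap_apply]
      rfl
    rw [← spMap_comp, Category.assoc, hφA, ← Category.assoc, comp_lift, ← hgj, ← Category.assoc, spMap_comp, hι]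
  · obtain ⟨⟨p, s⟩, hps⟩ := IsLocalization.surj m.primeCompl (φA f)
    have h1 : f * (s : F[X]).eval e = p.eval e := by
      have := congrArg ε hps
      rwa [map_mul, (hεj _).1, (hεj _).1, hεφ] at this
    have h2 : j (φA f) = algebraMap F[X] (RatFunc F) p / algebraMap F[X] (RatFunc F) s := by
      have := congrArg j hps
      rw [map_mul, (hεj _).2, (hεj _).2] at this
      rw [← this, mul_div_cancel_right₀ _ (by
        rw [ne_eq, map_eq_zero_iff _ (RatFunc.algebraMap_injective _)]; exact fun h => s.2 (by rw [h]; exact map_zero _))]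
    have hdvd : ((j.comp φA) f).denom ∣ (s : F[X]) := by
      show (j (φA f)).denom ∣ _
      rw [h2]
      exact RatFunc.denom_div_dvd _ _
    have hd : ((j.comp φA) f).denom.eval e ≠ 0 := fun h => (hne s).ne_zero (by
      obtain ⟨r, hr⟩ := hdvd
      rw [coe_evalRingHom, hr, eval_mul, h, zero_mul])
    refine ⟨hd, (eq_div_iff hd).mpr ?_⟩
    have hs0 : (s : F[X]).eval e ≠ 0 := (hne s).ne_zero
    apply mul_right_cancel₀ hs0
    have h3 : ((j.comp φA) f).num * (s : F[X]) = p * ((j.comp φA) f).denom := by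
      apply RatFunc.algebraMap_injective F
      rw [map_mul, map_mul, ← div_eq_div_iff (by
        rw [ne_eq, map_eq_zero_iff _ (RatFunc.algebraMap_injective _)]; exact RatFunc.denom_ne_zero _) (by
        rw [ne_eq, map_eq_zero_iff _ (RatFunc.algebraMap_injective _)]; exact fun h => hs0 (by rw [h, eval_zero])), RatFunc.num_div_denom]
      exact h2
    calc f * eval e ((j.comp φA) f).denom * (s : F[X]).eval e
        = (f * (s : F[X]).eval e) * eval e ((j.comp φA) f).denom := by ring
      _ = eval e (p * ((j.comp φA) f).denom) := by rw [h1, eval_mul]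
      _ = eval e ((j.comp φA) f).num * (s : F[X]).eval e := by rw [← h3, eval_mul]

/-- The cocycle identity of `ψ`, for a substitution `σ : T ↦ op S T`. -/
theorem cocycle (hx : Factors x₀) (L : LineCoord G) (he : L.e = 0 ∨ L.e = 1) {ψ : F →ₐ[K] RatFunc F}
    (hψ : IsPsi a x₀ L ψ) (σ : (RatFunc F)[X] →+* (RatFunc F)[X]) (hσinj : Function.Injective σ)
    (hσC : ∀ c : RatFunc F, σ (C c) = C c)
    (hσX : algebraMap (RatFunc F)[X] (RatFunc (RatFunc F)) (σ Polynomial.X) =
      L.op (RatFunc.X : RatFunc (RatFunc F)) (RatFunc.C (RatFunc.X : RatFunc F))) (f : F) :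
    ((ψ f).num).map (ψ : F →+* RatFunc F) * σ ((ψ f).denom.map RatFunc.C) =
      ((ψ f).denom).map (ψ : F →+* RatFunc F) * σ ((ψ f).num.map RatFunc.C) := by
  classical
  let L₁ := RatFunc F
  let L₂ := RatFunc L₁
  let rμ : F[X] →+* L₁[X] := σ.comp (mapRingHom RatFunc.C)
  let rS : F[X] →+* L₁[X] := mapRingHom (ψ : F →+* L₁)
  have hrμ : Function.Injective rμ := hσinj.comp (map_injective _ RatFunc.C_injective)
  have hrS : Function.Injective rS := map_injective _ (ψ : F →+* L₁).injective
  have hlift : ∀ r : F[X] →+* L₁[X], Function.Injective r →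
      nonZeroDivisors F[X] ≤ Submonoid.comap ((algebraMap L₁[X] L₂).comp r) (nonZeroDivisors L₂) := fun r hr q hq => by
    refine mem_nonZeroDivisors_of_ne_zero ?_
    rw [RingHom.comp_apply, ne_eq, map_eq_zero_iff _ (RatFunc.algebraMap_injective _), map_eq_zero_iff r hr]
    exact nonZeroDivisors.ne_zero hq
  have hu : ∀ r : F[X] →+* L₁[X], Function.Injective r → ∀ y : nonZeroDivisors F[X],
      IsUnit (((algebraMap L₁[X] L₂).comp r) y) := fun r hr y =>
    Ne.isUnit (nonZeroDivisors.ne_zero (hlift r hr y.2))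
  let θμ : L₁ →+* L₂ := IsLocalization.lift (M := nonZeroDivisors F[X]) (hu rμ hrμ)
  let θS : L₁ →+* L₂ := IsLocalization.lift (M := nonZeroDivisors F[X]) (hu rS hrS)
  have hμp : ∀ p, θμ (algebraMap F[X] L₁ p) = algebraMap L₁[X] L₂ (σ (p.map RatFunc.C)) := fun p => by
    rw [IsLocalization.lift_eq]; rfl
  have hSp : ∀ p, θS (algebraMap F[X] L₁ p) = algebraMap L₁[X] L₂ (p.map (ψ : F →+* L₁)) := fun p => by
    rw [IsLocalization.lift_eq]; rfl
  let ι₂ : L₁ →ₐ[K] L₂ := IsScalarTower.toAlgHom K L₁ L₂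
  have halgK : ∀ c : K, algebraMap K L₁ c = algebraMap F[X] L₁ (C (algebraMap K F c)) := fun c => by
    rw [RatFunc.algebraMap_C, IsScalarTower.algebraMap_apply K F L₁]; rfl
  have halgK2 : ∀ c : K, algebraMap K L₂ c = algebraMap L₁[X] L₂ (C (algebraMap K L₁ c)) := fun c => by
    rw [RatFunc.algebraMap_C, IsScalarTower.algebraMap_apply K L₁ L₂]; rfl
  have hcμ : ∀ c : K, θμ (algebraMap K L₁ c) = algebraMap K L₂ c := fun c => by
    rw [halgK, hμp, map_C, hσC, halgK2, halgK]
    exact congrArg (fun z => algebraMap L₁[X] L₂ (C z)) (RatFunc.algebraMap_C _).symm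
  let Θμ : L₁ →ₐ[K] L₂ := AlgHom.mk θμ hcμ
  have hcS : ∀ c : K, θS (algebraMap K L₁ c) = algebraMap K L₂ c := fun c => by
    rw [halgK, hSp, map_C, halgK2]
    exact congrArg (fun z => algebraMap L₁[X] L₂ (C z)) (ψ.commutes c)
  let ΘS : L₁ →ₐ[K] L₂ := AlgHom.mk θS hcS
  let ι₁ : F →ₐ[K] L₁ := IsScalarTower.toAlgHom K F L₁
  obtain ⟨g₁, hg₁⟩ := L.exists_pt (RatFunc.X : L₁) (Or.inr (Ne.isUnit RatFunc.X_ne_zero))
  have hy := hψ g₁ hg₁
  have hμι : Θμ.comp ι₁ = ι₂.comp ι₁ := AlgHom.ext fun c => by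
    show θμ (algebraMap F L₁ c) = algebraMap L₁ L₂ (algebraMap F L₁ c)
    rw [show algebraMap F L₁ c = algebraMap F[X] L₁ (C c) by rw [RatFunc.algebraMap_C]; rfl, hμp, map_C, hσC,
      RatFunc.algebraMap_C, RatFunc.algebraMap_C]
    rfl
  have hSι : ΘS.comp ι₁ = ι₂.comp ψ := AlgHom.ext fun c => by
    show θS (algebraMap F L₁ c) = algebraMap L₁ L₂ (ψ c)
    rw [show algebraMap F L₁ c = algebraMap F[X] L₁ (C c) by rw [RatFunc.algebraMap_C]; rfl, hSp, map_C,
      RatFunc.algebraMap_C]
    rfl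
  have hgμ : spMap Θμ ≫ g₁ = (spMap ΘS ≫ g₁) * (spMap ι₂ ≫ g₁) := by
    refine L.ext ?_
    rw [L.co_mul, co_comp, co_comp, co_comp, hg₁]
    show θμ RatFunc.X = L.op (θS RatFunc.X) (algebraMap L₁ L₂ RatFunc.X)
    rw [← RatFunc.algebraMap_X, hμp, hSp, map_X, map_X, RatFunc.algebraMap_X, RatFunc.algebraMap_X]
    exact hσX
  have key : ΘS.comp ψ = Θμ.comp ψ := by
    refine hx.algHom_ext ?_
    rw [← spMap_comp, ← spMap_comp, Category.assoc, Category.assoc, ← hy, ← Category.assoc, ← Category.assoc,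
      comp_lift, comp_lift, hgμ, ← GrpSchLib.act_mul, ← Category.assoc (spMap ΘS), spMap_comp, hSι, ← spMap_comp,
      Category.assoc, ← hy]
    congr 2
    rw [← Category.assoc (spMap Θμ), spMap_comp, hμι, ← spMap_comp, ← Category.assoc (spMap ι₂), comp_lift,
      Category.assoc (spMap ι₂)]
  have hk : θS (ψ f) = θμ (ψ f) := DFunLike.congr_fun key f
  rw [← RatFunc.num_div_denom (ψ f), map_div₀, map_div₀, hSp, hSp, hμp, hμp] at hk
  rw [div_eq_div_iff] at hk
  · apply RatFunc.algebraMap_injective L₁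
    rw [map_mul, map_mul, hk]
    exact mul_comm _ _
  · rw [ne_eq, map_eq_zero_iff _ (RatFunc.algebraMap_injective _)]
    exact (Polynomial.map_ne_zero_iff (ψ : F →+* L₁).injective).mpr (RatFunc.denom_ne_zero _)
  · rw [ne_eq, map_eq_zero_iff _ (RatFunc.algebraMap_injective _)]
    exact fun h => RatFunc.denom_ne_zero (ψ f) (hrμ (h.trans (map_zero rμ).symm))

end Groth.Agent.BddFinBirat
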