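import Groth.Agent.BddFinBirat.Main
import Mathlib.RingTheory.PolynomialAlgebra
import Mathlib.RingTheory.Smooth.Basic

/-!
# Coordinates on the line groups
-/

universe u

open CategoryTheory MonoidalCategory CartesianMonoidalCategory MonObj AlgebraicGeometry TensorProduct
open scoped Polynomial LaurentPolynomial

set_option backward.isDefEq.respectTransparency false
set_option backward.isDefEq.respectTransparency.types false

namespace Groth.Agent.BddFinBirat

open GrpSchLib Kunneth AffineHopf LineGroups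

variable {K : Type u} [Field K] {G : Over (Spec (CommRingCat.of K))} [GrpObj G] [IsAffine G.left]

theorem exists_coord_Ga (φ₀ : K[X] ≃ₐ[K] Fn G) : ∃ (φ : K[X] ≃ₐ[K] Fn G) (L : LineCoord G),
    L.e = 0 ∧ L.t = φ Polynomial.X ∧ (∀ {C : Type u} [CommRing C] (x y : C), L.op x y = x + y) := by
  let c := evPt η[G] (φ₀ Polynomial.X)
  let φ := (Polynomial.algEquivAevalXAddC (-c)).trans φ₀
  have h0 : evPt η[G] (φ Polynomial.X) = 0 := by
    show evPt η[G] (φ₀ (Polynomial.aeval _ Polynomial.X)) = 0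
    rw [Polynomial.aeval_X, map_add, map_add]
    show c + evPt η[G] (φ₀ (algebraMap K _ (-c))) = 0
    rw [AlgEquiv.commutes, AlgHom.commutes]
    exact add_neg_cancel c
  refine ⟨φ, ⟨φ Polynomial.X, fun {C} _ x y => x + y, 0, fun c => by simp, fun {C} _ _ c _ => ?_, fun {C} _ _ g g' h => ?_,
    fun {C} _ _ g g' => ?_⟩, rfl, rfl, fun {C} _ x y => rfl⟩
  · obtain ⟨g, hg⟩ := exists_hom_ev (T := sp K C) (X := G) ((Polynomial.aeval (spEquiv (k := K) C c)).comp φ.symm.toAlgHom)
    refine ⟨g, ?_⟩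
    rw [co, hg]
    show (spEquiv (k := K) C).symm (Polynomial.aeval (spEquiv (k := K) C c) (φ.symm (φ Polynomial.X))) = c
    rw [AlgEquiv.symm_apply_apply, Polynomial.aeval_X, AlgEquiv.symm_apply_apply]
  · exact ext_coord_Ga φ ((spEquiv (k := K) C).symm.injective h)
  · show (spEquiv (k := K) C).symm _ = (spEquiv (k := K) C).symm _ + (spEquiv (k := K) C).symm _
    rw [← map_add, Hom.mul_def, ← ev_ev, mul_coord_Ga G φ h0, map_add, ev_ev, ev_ev, lift_fst, lift_snd]

theorem exists_coord_Gm (φ : K[T;T⁻¹] ≃ₐ[K] Fn G) : ∃ (w : K) (L : LineCoord G),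
    w ≠ 0 ∧ L.e = 1 ∧ L.t = w • φ (LaurentPolynomial.T 1) ∧ (∀ {C : Type u} [CommRing C] (x y : C), L.op x y = x * y) := by
  let w₀ := evPt η[G] (φ (LaurentPolynomial.T 1))
  have hw₀ : w₀ ≠ 0 := (((LaurentPolynomial.isUnit_T (R := K) 1).map φ).map (evPt η[G])).ne_zero
  refine ⟨w₀⁻¹, ⟨w₀⁻¹ • φ (LaurentPolynomial.T 1), fun {C} _ x y => x * y, 1, fun c => by simp,
    fun {C} _ _ c hc => ?_, fun {C} _ _ g g' h => ?_, fun {C} _ _ g g' => ?_⟩,
    inv_ne_zero hw₀, rfl, rfl, fun {C} _ x y => rfl⟩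
  · have hu : IsUnit (spEquiv (k := K) C (algebraMap K C w₀ * c)) :=
      (((Ne.isUnit hw₀).map (algebraMap K C)).mul (hc.resolve_left one_ne_zero)).map _
    let f : K[T;T⁻¹] →ₐ[K] Fn (sp K C) := AddMonoidAlgebra.lift K (Fn (sp K C)) ℤ
      ((Units.coeHom _).comp (zpowersHom _ hu.unit))
    have hf : f (LaurentPolynomial.T 1) = spEquiv (k := K) C (algebraMap K C w₀ * c) := by
      show AddMonoidAlgebra.lift K _ ℤ _ (AddMonoidAlgebra.single 1 1) = _
      rw [AddMonoidAlgebra.lift_single, one_smul]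
      simp [zpowersHom_apply]
    obtain ⟨g, hg⟩ := exists_hom_ev (T := sp K C) (X := G) (f.comp φ.symm.toAlgHom)
    refine ⟨g, ?_⟩
    rw [co, map_smul, hg]
    show (spEquiv (k := K) C).symm (w₀⁻¹ • f (φ.symm (φ (LaurentPolynomial.T 1)))) = c
    rw [AlgEquiv.symm_apply_apply, hf, map_smul, AlgEquiv.symm_apply_apply, Algebra.smul_def, ← _root_.mul_assoc,
      ← map_mul, inv_mul_cancel₀ hw₀, map_one, _root_.one_mul]
  · refine ext_coord_Gm φ ?_
    have h' := (spEquiv (k := K) C).symm.injective h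
    rw [map_smul, map_smul] at h'
    exact (inv_ne_zero hw₀).isUnit.smul_left_cancel.mp h'
  · show (spEquiv (k := K) C).symm _ = (spEquiv (k := K) C).symm _ * (spEquiv (k := K) C).symm _
    rw [← map_mul]
    congr 1
    simp only [map_smul, Hom.mul_def]
    rw [← ev_ev, mul_coord_Gm G φ, map_smul, map_mul, ev_ev, ev_ev, lift_fst, lift_snd, smul_mul_smul_comm, smul_smul]

theorem ev_gen {F : Type u} [Field F] [Algebra K F] (g₁ : sp K (RatFunc F) ⟶ G)
    (hinj : Function.Injective (Algebra.TensorProduct.lift (((spEquiv (k := K) (RatFunc F)).symm.toAlgHom).comp (ev g₁))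
      (IsScalarTower.toAlgHom K F (RatFunc F)) (fun _ _ => .all _ _) : Fn G ⊗[K] F →ₐ[K] RatFunc F)) :
    Function.Injective (ev (lift g₁ (spMap (IsScalarTower.toAlgHom K F (RatFunc F))) : sp K (RatFunc F) ⟶ G ⊗ sp K F)) := by
  haveI : IsAffine (sp K F).left := isAffine_Spec _
  haveI : IsAffineHom (sp K F).hom := inferInstance
  haveI : IsAffineHom G.hom := inferInstance
  let e := Algebra.TensorProduct.congr (AlgEquiv.refl : Fn G ≃ₐ[K] Fn G) (spEquiv (k := K) F)
  let h := (lift g₁ (spMap (IsScalarTower.toAlgHom K F (RatFunc F))) : sp K (RatFunc F) ⟶ G ⊗ sp K F)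
  have key : ((spEquiv (k := K) (RatFunc F)).symm.toAlgHom.comp ((ev h).comp (toProd G (sp K F)))).comp e.toAlgHom =
      Algebra.TensorProduct.lift (((spEquiv (k := K) (RatFunc F)).symm.toAlgHom).comp (ev g₁))
        (IsScalarTower.toAlgHom K F (RatFunc F)) (fun _ _ => .all _ _) := by
    refine Algebra.TensorProduct.ext' fun p f => ?_
    rw [Algebra.TensorProduct.lift_tmul]
    show (spEquiv (k := K) (RatFunc F)).symm (ev h (Algebra.TensorProduct.lift (ev (fst G (sp K F))) (ev (snd G (sp K F)))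
      (fun _ _ => .all _ _) (p ⊗ₜ[K] spEquiv (k := K) F f))) = _
    rw [Algebra.TensorProduct.lift_tmul, map_mul, map_mul, ev_ev, ev_ev, lift_fst, lift_snd]
    have hn : ∀ c : F, ev (spMap (IsScalarTower.toAlgHom K F (RatFunc F))) (spEquiv (k := K) F c) =
        spEquiv (k := K) (RatFunc F) (IsScalarTower.toAlgHom K F (RatFunc F) c) := fun c =>
      (ConcreteCategory.congr_hom (Scheme.ΓSpecIso_inv_naturality
        (CommRingCat.ofHom (IsScalarTower.toAlgHom K F (RatFunc F)).toRingHom)) c).symm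
    rw [hn, AlgEquiv.symm_apply_apply]
    rfl
  rw [injective_iff_map_eq_zero]
  intro z hz
  obtain ⟨y, rfl⟩ := (toProd_bijective G (sp K F)).2 z
  obtain ⟨y', rfl⟩ := e.surjective y
  have : y' = 0 := hinj (by
    rw [map_zero, ← key]
    show (spEquiv (k := K) (RatFunc F)).symm (ev h (toProd G (sp K F) (e y'))) = 0
    rw [hz, map_zero])
  rw [this, map_zero, map_zero]

theorem injective_Ga (φ : K[X] ≃ₐ[K] Fn G) (L : LineCoord G) (ht : L.t = φ Polynomial.X) (F : Type u) [Field F]
    [Algebra K F] (g₁ : sp K (RatFunc F) ⟶ G) (hg₁ : co L.t g₁ = RatFunc.X) :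
    Function.Injective (ev (lift g₁ (spMap (IsScalarTower.toAlgHom K F (RatFunc F))) : sp K (RatFunc F) ⟶ G ⊗ sp K F)) := by
  refine ev_gen g₁ ?_
  let e := (polyEquivTensor K F).trans ((Algebra.TensorProduct.comm K F K[X]).trans
    (Algebra.TensorProduct.congr φ (AlgEquiv.refl : F ≃ₐ[K] F)))
  let Ψ := Algebra.TensorProduct.lift (((spEquiv (k := K) (RatFunc F)).symm.toAlgHom).comp (ev g₁))
      (IsScalarTower.toAlgHom K F (RatFunc F)) (fun _ _ => .all _ _)
  show Function.Injective Ψ
  rw [injective_iff_map_eq_zero]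
  intro z hz
  obtain ⟨p, rfl⟩ := e.surjective z
  have key : ∀ p : F[X], Ψ (e p) = algebraMap F[X] (RatFunc F) p := by
    intro p
    induction p using Polynomial.induction_on' with
    | add a b ha hb => rw [map_add, map_add, map_add, ha, hb]
    | monomial n c =>
      have he : e (Polynomial.monomial n c) = ((φ Polynomial.X) ^ n) ⊗ₜ[K] c := by
        show Algebra.TensorProduct.congr φ AlgEquiv.refl (Algebra.TensorProduct.comm K F K[X]
          (polyEquivTensor K F (Polynomial.monomial n c))) = _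
        rw [polyEquivTensor_apply, Polynomial.eval₂_monomial]
        simp
      have hX : ((spEquiv (k := K) (RatFunc F)).symm.toAlgHom.comp (ev g₁)) (φ Polynomial.X) = RatFunc.X := by
        rw [← ht]; exact hg₁
      rw [he, Algebra.TensorProduct.lift_tmul, map_pow, hX, ← Polynomial.C_mul_X_pow_eq_monomial, map_mul, map_pow,
        RatFunc.algebraMap_X, RatFunc.algebraMap_C]
      exact mul_comm _ _
  rw [key] at hz
  rw [(map_eq_zero_iff _ (RatFunc.algebraMap_injective F)).mp hz, map_zero]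

theorem injective_Gm (φ : K[T;T⁻¹] ≃ₐ[K] Fn G) (L : LineCoord G) {w : K} (hw : w ≠ 0)
    (ht : L.t = w • φ (LaurentPolynomial.T 1)) (F : Type u) [Field F] [Algebra K F] (g₁ : sp K (RatFunc F) ⟶ G)
    (hg₁ : co L.t g₁ = RatFunc.X) :
    Function.Injective (ev (lift g₁ (spMap (IsScalarTower.toAlgHom K F (RatFunc F))) : sp K (RatFunc F) ⟶ G ⊗ sp K F)) := by
  refine ev_gen g₁ ?_
  let Ψ := Algebra.TensorProduct.lift (((spEquiv (k := K) (RatFunc F)).symm.toAlgHom).comp (ev g₁))
      (IsScalarTower.toAlgHom K F (RatFunc F)) (fun _ _ => .all _ _)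
  let u := φ (LaurentPolynomial.T 1)
  let θ : F[X] →+* Fn G ⊗[K] F :=
    Polynomial.eval₂RingHom (Algebra.TensorProduct.includeRight : F →ₐ[K] Fn G ⊗[K] F).toRingHom (u ⊗ₜ[K] 1)
  have hXu : Ψ (u ⊗ₜ[K] 1) = algebraMap K (RatFunc F) w⁻¹ * RatFunc.X := by
    rw [Algebra.TensorProduct.lift_tmul, map_one, _root_.mul_one, ← hg₁, co, ht, map_smul, map_smul, Algebra.smul_def,
      ← _root_.mul_assoc, ← map_mul, inv_mul_cancel₀ hw, map_one, _root_.one_mul]
    rfl
  have hθ : ∀ p : F[X], Ψ (θ p) =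
      algebraMap F[X] (RatFunc F) (p.comp (Polynomial.C (algebraMap K F w⁻¹) * Polynomial.X)) := by
    intro p
    induction p using Polynomial.induction_on' with
    | add a b ha hb => rw [map_add, map_add, Polynomial.add_comp, map_add, ha, hb]
    | monomial n c =>
      simp only [θ, Polynomial.coe_eval₂RingHom, Polynomial.eval₂_monomial]
      rw [map_mul, map_pow, hXu, ← Polynomial.C_mul_X_pow_eq_monomial, Polynomial.mul_comp, Polynomial.C_comp,
        Polynomial.pow_comp, Polynomial.X_comp, map_mul, map_pow, map_mul, RatFunc.algebraMap_C, RatFunc.algebraMap_C,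
        RatFunc.algebraMap_X]
      congr 1
      · show Ψ ((1 : Fn G) ⊗ₜ[K] c) = _
        rw [Algebra.TensorProduct.lift_tmul, map_one, _root_.one_mul]
        rfl
  have hsurj : ∀ z : Fn G ⊗[K] F, ∃ (n : ℕ) (p : F[X]), z * (u ⊗ₜ[K] 1) ^ n = θ p := by
    intro z
    induction z using TensorProduct.induction_on with
    | zero => exact ⟨0, 0, by rw [map_zero, zero_mul]⟩
    | add a b ha hb =>
      obtain ⟨n, p, hp⟩ := ha
      obtain ⟨m, q, hq⟩ := hb
      refine ⟨n + m, p * Polynomial.X ^ m + q * Polynomial.X ^ n, ?_⟩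
      have hX : θ Polynomial.X = u ⊗ₜ[K] 1 := Polynomial.eval₂_X _ _
      rw [map_add, map_mul, map_mul, map_pow, map_pow, hX, ← hp, ← hq, pow_add]
      ring
    | tmul g c =>
      obtain ⟨n, q, hq⟩ := (φ.symm g).exists_T_pow
      refine ⟨n, Polynomial.C c * q.map (algebraMap K F), ?_⟩
      have hX : θ Polynomial.X = u ⊗ₜ[K] 1 := Polynomial.eval₂_X _ _
      have h1 : ∀ q : K[X], θ (q.map (algebraMap K F)) = φ (Polynomial.toLaurent q) ⊗ₜ[K] 1 := by
        intro q
        induction q using Polynomial.induction_on' with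
        | add a b ha hb => rw [Polynomial.map_add, map_add, ha, hb, map_add, map_add, TensorProduct.add_tmul]
        | monomial i r =>
          rw [Polynomial.map_monomial, ← Polynomial.C_mul_X_pow_eq_monomial, ← Polynomial.C_mul_X_pow_eq_monomial,
            map_mul, map_pow, hX, map_mul (Polynomial.toLaurent), Polynomial.toLaurent_C, map_pow (Polynomial.toLaurent),
            Polynomial.toLaurent_X, map_mul, map_pow, LaurentPolynomial.C_eq_algebraMap, AlgEquiv.commutes,
            Algebra.TensorProduct.tmul_pow, one_pow]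
          rw [show θ (Polynomial.C (algebraMap K F r)) = (1 : Fn G) ⊗ₜ[K] algebraMap K F r from Polynomial.eval₂_C _ _]
          rw [Algebra.TensorProduct.tmul_mul_tmul, _root_.one_mul, _root_.mul_one, Algebra.algebraMap_eq_smul_one (A := F),
            Algebra.algebraMap_eq_smul_one (A := Fn G), smul_mul_assoc, _root_.one_mul, TensorProduct.smul_tmul]
      have h2 : φ (LaurentPolynomial.T (n : ℤ)) = u ^ n := by
        rw [← map_pow, LaurentPolynomial.T_pow, _root_.mul_one]
      have hC : θ (Polynomial.C c) = (1 : Fn G) ⊗ₜ[K] c := Polynomial.eval₂_C _ _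
      rw [map_mul, h1, hq, map_mul, AlgEquiv.apply_symm_apply, h2, hC, Algebra.TensorProduct.tmul_mul_tmul,
        Algebra.TensorProduct.tmul_pow, one_pow, Algebra.TensorProduct.tmul_mul_tmul, _root_.one_mul, _root_.mul_one]
  show Function.Injective Ψ
  rw [injective_iff_map_eq_zero]
  intro z hz
  obtain ⟨n, p, hp⟩ := hsurj z
  have h0 : Ψ (θ p) = 0 := by rw [← hp, map_mul, hz, zero_mul]
  rw [hθ, map_eq_zero_iff _ (RatFunc.algebraMap_injective F)] at h0
  have hp0 : p = 0 := by
    rcases Polynomial.comp_eq_zero_iff.mp h0 with h | ⟨-, h⟩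
    · exact h
    · have := congrArg Polynomial.natDegree h
      rw [Polynomial.natDegree_C_mul ((map_ne_zero _).mpr (inv_ne_zero hw)), Polynomial.natDegree_X,
        Polynomial.natDegree_C] at this
      exact absurd this one_ne_zero
  rw [hp0, map_zero] at hp
  have hu : IsUnit ((u ⊗ₜ[K] (1 : F)) ^ n) :=
    ((((LaurentPolynomial.isUnit_T (R := K) 1).map φ).map
      (Algebra.TensorProduct.includeLeft : Fn G →ₐ[K] Fn G ⊗[K] F)).pow n)
  exact (hu.mul_left_eq_zero).mp hp

theorem injective_comp_C_mul_X {L : Type u} [Field L] {c : L} (hc : c ≠ 0) :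
    Function.Injective (Polynomial.compRingHom (Polynomial.C c * Polynomial.X) : L[X] →+* L[X]) := by
  rw [injective_iff_map_eq_zero]
  intro p hp
  rw [Polynomial.coe_compRingHom_apply] at hp
  rcases Polynomial.comp_eq_zero_iff.mp hp with h | ⟨-, h⟩
  · exact h
  · have := congrArg Polynomial.natDegree h
    rw [Polynomial.natDegree_C_mul hc, Polynomial.natDegree_X, Polynomial.natDegree_C] at this
    exact absurd this one_ne_zero

instance smooth_polynomial : Algebra.Smooth K K[X] where
  formallySmooth := inferInstance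
  finitePresentation :=
    haveI : Algebra.FinitePresentation K (MvPolynomial PUnit.{1} K) := inferInstance
    Algebra.FinitePresentation.equiv (MvPolynomial.uniqueAlgEquiv K PUnit.{1})

omit [GrpObj G] in
/-- An affine scheme with smooth algebra of functions is smooth. -/
theorem smooth_of_equiv {A : Type u} [CommRing A] [Algebra K A] [Algebra.Smooth K A] (φ : A ≃ₐ[K] Fn G) :
    Smooth G.hom := by
  have hg : G.hom.appTop = (Scheme.ΓSpecIso (CommRingCat.of K)).hom ≫ CommRingCat.ofHom (algebraMap K (Fn G)) := by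
    rw [← Iso.inv_comp_eq]; rfl
  rw [HasRingHomProperty.iff_of_isAffine (P := @Smooth), hg, CommRingCat.hom_comp]
  refine (RingHom.Smooth.propertyIsLocal.respectsIso).2 _ (Scheme.ΓSpecIso (CommRingCat.of K)).commRingCatIsoToRingEquiv ?_
  haveI : Algebra.Smooth K (Fn G) := Algebra.Smooth.of_equiv φ
  exact RingHom.smooth_algebraMap.mpr inferInstance

instance smooth_laurent : Algebra.Smooth K K[T;T⁻¹] := by
  haveI : IsScalarTower K K[X] K[T;T⁻¹] := IsScalarTower.of_algebraMap_eq fun r => by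
    rw [LaurentPolynomial.algebraMap_eq_toLaurent, Polynomial.algebraMap_eq, Polynomial.toLaurent_C]
    rfl
  haveI : Algebra.Smooth K[X] K[T;T⁻¹] := Algebra.Smooth.of_isLocalization_Away (Polynomial.X : K[X])
  exact Algebra.Smooth.comp K K[X] K[T;T⁻¹]

end Groth.Agent.BddFinBirat
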