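import Mathlib.FieldTheory.RatFunc.AsPolynomial
import Mathlib.FieldTheory.RatFunc.Degree
import Mathlib.Algebra.Polynomial.Taylor
import Mathlib.Algebra.Polynomial.HasseDeriv
import Mathlib.Algebra.Field.Subfield.Basic

/-!
# Fields with a nontrivial rational coaction of the additive or multiplicative group

Elementary form of the theorem that such a field is purely transcendental of degree one over its invariants.
-/

universe u

open Polynomial

namespace Groth.Agent.BddFinBirat

variable {F : Type u} [Field F] (ψ : F →+* RatFunc F)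

/-- The invariant elements. -/
noncomputable def invariants : Subfield F := RingHom.eqLocusField ψ RatFunc.C

theorem mem_invariants {x : F} : x ∈ invariants ψ ↔ ψ x = RatFunc.C x := Iff.rfl

/-- The field is the invariants with one element adjoined, and that element is transcendental over them. -/
def IsSplitBy (s : F) : Prop :=
  Subfield.closure (insert s (invariants ψ : Set F)) = ⊤ ∧
    ∀ q : F[X], (∀ i, q.coeff i ∈ invariants ψ) → q.eval s = 0 → q = 0

theorem monic_fraction_unique {L : Type u} [Field L] {A B A' B' : L[X]} (hB : B.Monic) (hB' : B'.Monic)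
    (hAB : IsCoprime A B) (hAB' : IsCoprime A' B') (h : A * B' = B * A') : A = A' ∧ B = B' := by
  have h1 : B ∣ B' := hAB.symm.dvd_of_dvd_mul_left ⟨A', h⟩
  have h2 : B' ∣ B := hAB'.symm.dvd_of_dvd_mul_right ⟨A, by rw [← h]; ring⟩
  have e : B = B' := eq_of_monic_of_associated hB hB' (associated_of_dvd_dvd h1 h2)
  subst e
  exact ⟨mul_right_cancel₀ hB.ne_zero (h.trans (mul_comm B A')), rfl⟩

variable {ψ}

theorem coeff_map_eq_taylor (hcoc : ∀ f : F, ((ψ f).num).map ψ * taylor RatFunc.X ((ψ f).denom.map RatFunc.C) =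
      ((ψ f).denom).map ψ * taylor RatFunc.X ((ψ f).num.map RatFunc.C)) (f : F) :
    ((ψ f).num).map ψ = taylor RatFunc.X ((ψ f).num.map RatFunc.C) ∧
      ((ψ f).denom).map ψ = taylor RatFunc.X ((ψ f).denom.map RatFunc.C) := by
  refine monic_fraction_unique ((RatFunc.monic_denom _).map ψ) ?_
    ((RatFunc.isCoprime_num_denom (ψ f)).map (mapRingHom ψ)) ?_ (hcoc f)
  · rw [taylor_apply]
    exact ((RatFunc.monic_denom _).map _).comp_X_add_C _
  · have h := ((RatFunc.isCoprime_num_denom (ψ f)).map (mapRingHom RatFunc.C)).map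
      (taylorAlgHom (RatFunc.X : RatFunc F)).toRingHom
    exact h

theorem coeff_polynomial (hcoc : ∀ f : F, ((ψ f).num).map ψ * taylor RatFunc.X ((ψ f).denom.map RatFunc.C) =
      ((ψ f).denom).map ψ * taylor RatFunc.X ((ψ f).num.map RatFunc.C)) (f : F) (j : ℕ) :
    ψ ((ψ f).num.coeff j) = algebraMap F[X] (RatFunc F) (hasseDeriv j (ψ f).num) ∧
      ψ ((ψ f).denom.coeff j) = algebraMap F[X] (RatFunc F) (hasseDeriv j (ψ f).denom) := by
  obtain ⟨h1, h2⟩ := coeff_map_eq_taylor hcoc f
  have key : ∀ p : F[X], (taylor RatFunc.X (p.map RatFunc.C)).coeff j =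
      algebraMap F[X] (RatFunc F) (hasseDeriv j p) := by
    intro p
    rw [taylor_coeff]
    rw [show hasseDeriv j (p.map RatFunc.C) = (hasseDeriv j p).map RatFunc.C by
      ext n; simp [hasseDeriv_coeff, map_mul]]
    rw [eval_map, ← RatFunc.algebraMap_X]
    conv_rhs => rw [← eval₂_C_X (p := hasseDeriv j p), hom_eval₂]
    congr 1
  constructor
  · have := congrArg (fun q => q.coeff j) h1
    simpa only [coeff_map, key] using this
  · have := congrArg (fun q => q.coeff j) h2
    simpa only [coeff_map, key] using this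

theorem X_add_one_pow_mod {L : Type u} [CommRing L] {d : ℕ} (hd : (X + 1 : L[X]) ^ d = X ^ d + 1) (k i : ℕ)
    (hi : i < d) : ((k * d + i).choose i : L) = 1 := by
  rw [← coeff_X_add_one_pow, pow_add, mul_comm k d, pow_mul, hd]
  have h1 : ((X ^ d + 1 : L[X]) ^ k) = 1 + X ^ d * (∑ m ∈ Finset.range k, (X ^ d + 1) ^ m) := by
    have := geom_sum_mul (X ^ d + 1 : L[X]) k
    rw [add_sub_cancel_right] at this
    rw [mul_comm (X ^ d), this]; ring
  rw [h1, add_mul, one_mul, coeff_add, mul_assoc, coeff_X_pow_mul', if_neg (not_le.mpr hi), add_zero,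
    coeff_X_add_one_pow, Nat.choose_self, Nat.cast_one]

theorem isSplitBy_add
    (hε : ∀ f : F, (ψ f).denom.eval 0 ≠ 0 ∧ f = (ψ f).num.eval 0 / (ψ f).denom.eval 0)
    (hcoc : ∀ f : F, ((ψ f).num).map ψ * taylor RatFunc.X ((ψ f).denom.map RatFunc.C) =
      ((ψ f).denom).map ψ * taylor RatFunc.X ((ψ f).num.map RatFunc.C))
    (hnt : ∃ f : F, ψ f ≠ RatFunc.C f) : ∃ s : F, IsSplitBy ψ s := by
  classical
  -- elements with polynomial image
  have hpoly : ∀ g : F, ∀ P : F[X], ψ g = algebraMap F[X] (RatFunc F) P →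
      g = P.eval 0 ∧ ∀ j, ψ (P.coeff j) = algebraMap F[X] (RatFunc F) (hasseDeriv j P) := by
    intro g P hP
    have hn : (ψ g).num = P := by rw [hP, RatFunc.num_algebraMap]
    have hd : (ψ g).denom = 1 := by rw [hP, RatFunc.denom_algebraMap]
    refine ⟨?_, fun j => ?_⟩
    · have := (hε g).2
      rwa [hn, hd, eval_one, div_one] at this
    · have := (coeff_polynomial hcoc g j).1
      rwa [hn] at this
  let A : Set F := {g | ∃ P : F[X], ψ g = algebraMap F[X] (RatFunc F) P}
  have hgenA : ∀ f : F, f ∈ Subfield.closure A := by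
    intro f
    rw [(hε f).2, ← coeff_zero_eq_eval_zero, ← coeff_zero_eq_eval_zero]
    exact div_mem (Subfield.subset_closure ⟨_, (coeff_polynomial hcoc f 0).1⟩)
      (Subfield.subset_closure ⟨_, (coeff_polynomial hcoc f 0).2⟩)
  have hinv0 : ∀ g : F, ∀ P : F[X], ψ g = algebraMap F[X] (RatFunc F) P → P.natDegree = 0 → g ∈ invariants ψ := by
    intro g P hP hdeg
    obtain ⟨h1, -⟩ := hpoly g P hP
    rw [eq_C_of_natDegree_eq_zero hdeg, eval_C] at h1
    rw [mem_invariants, hP, eq_C_of_natDegree_eq_zero hdeg, RatFunc.algebraMap_C, ← h1]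
  have hex : ∃ d, 0 < d ∧ ∃ g P, ψ g = algebraMap F[X] (RatFunc F) P ∧ P.natDegree = d := by
    by_contra hne
    push Not at hne
    obtain ⟨f, hf⟩ := hnt
    refine hf ?_
    have hle : Subfield.closure A ≤ invariants ψ := Subfield.closure_le.mpr fun g ⟨P, hP⟩ => by
      rcases Nat.eq_zero_or_pos P.natDegree with h | h
      · exact hinv0 g P hP h
      · exact absurd rfl (hne _ h g P hP)
    exact hle (hgenA f)
  obtain ⟨d, ⟨hd0, s, Ps, hPs, hPsd⟩, hmin⟩ : ∃ d, (0 < d ∧ ∃ g P, ψ g = algebraMap F[X] (RatFunc F) P ∧ P.natDegree = d) ∧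
      ∀ d', 0 < d' → (∃ g P, ψ g = algebraMap F[X] (RatFunc F) P ∧ P.natDegree = d') → d ≤ d' :=
    ⟨Nat.find hex, Nat.find_spec hex, fun d' h h' => Nat.find_min' hex ⟨h, h'⟩⟩
  -- the degree of a coefficient
  have hcoefdeg : ∀ g P, ψ g = algebraMap F[X] (RatFunc F) P → ∀ i, i < d → i ≤ P.natDegree → 0 < i →
      ((P.natDegree.choose i : ℕ) : F) = 0 := by
    intro g P hP i hid him hi
    by_contra hne
    have hj := (hpoly g P hP).2 (P.natDegree - i)
    have hc : (hasseDeriv (P.natDegree - i) P).coeff i = (P.natDegree.choose i : F) * P.leadingCoeff := by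
      rw [hasseDeriv_coeff, show i + (P.natDegree - i) = P.natDegree by omega, Nat.choose_symm him]
      rfl
    have hP0 : P.leadingCoeff ≠ 0 := leadingCoeff_ne_zero.mpr fun h => by
      rw [h, natDegree_zero] at him; omega
    have hdeg : (hasseDeriv (P.natDegree - i) P).natDegree = i := by
      refine le_antisymm ((natDegree_hasseDeriv_le P _).trans (by omega)) (le_natDegree_of_ne_zero ?_)
      rw [hc]
      exact mul_ne_zero hne hP0
    exact absurd (hmin i hi ⟨_, _, hj, hdeg⟩) (by omega)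
  have hbin : (X + 1 : F[X]) ^ d = X ^ d + 1 := by
    ext n
    rw [coeff_X_add_one_pow, coeff_add, coeff_X_pow, coeff_one]
    rcases Nat.eq_zero_or_pos n with rfl | hn
    · simp [hd0.ne]
    rcases lt_trichotomy n d with h | rfl | h
    · rw [if_neg h.ne, if_neg hn.ne', add_zero]
      have := hcoefdeg s Ps hPs n h (hPsd ▸ h.le) hn
      rwa [hPsd] at this
    · simp [hn.ne']
    · rw [Nat.choose_eq_zero_of_lt h, if_neg h.ne', if_neg hn.ne']; simp
  have hdvd : ∀ g P, ψ g = algebraMap F[X] (RatFunc F) P → d ∣ P.natDegree := by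
    intro g P hP
    by_contra hnd
    have hi : 0 < P.natDegree % d := Nat.pos_of_ne_zero fun h => hnd (Nat.dvd_of_mod_eq_zero h)
    have h1 := hcoefdeg g P hP _ (Nat.mod_lt _ hd0) (Nat.mod_le _ _) hi
    have h2 := X_add_one_pow_mod hbin (P.natDegree / d) (P.natDegree % d) (Nat.mod_lt _ hd0)
    rw [Nat.div_add_mod'] at h2
    exact one_ne_zero (h2.symm.trans h1)
  have hlead : ∀ g P, ψ g = algebraMap F[X] (RatFunc F) P → P.leadingCoeff ∈ invariants ψ := by
    intro g P hP
    have hj := (hpoly g P hP).2 P.natDegree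
    rw [mem_invariants]
    refine hj.trans ?_
    rw [← RatFunc.algebraMap_C]
    congr 1
    refine eq_C_of_natDegree_eq_zero (Nat.le_zero.mp ((natDegree_hasseDeriv_le P _).trans (by omega))) |>.trans ?_
    rw [hasseDeriv_coeff, zero_add, Nat.choose_self, Nat.cast_one, one_mul]
    rfl
  have hPs0 : Ps.leadingCoeff ≠ 0 := leadingCoeff_ne_zero.mpr fun h => by rw [h, natDegree_zero] at hPsd; omega
  refine ⟨s, ?_, ?_⟩
  · rw [eq_top_iff]
    intro f _
    suffices key : ∀ m : ℕ, ∀ (g : F) (P : F[X]), P.natDegree = m → ψ g = algebraMap F[X] (RatFunc F) P →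
        g ∈ Subfield.closure (insert s (invariants ψ : Set F)) from
      Subfield.closure_le.mpr (fun g (hg : g ∈ A) => hg.elim fun P hP => key _ g P rfl hP) (hgenA f)
    intro m
    induction m using Nat.strong_induction_on with
    | _ m ih =>
      intro g P hm hP
      rcases Nat.eq_zero_or_pos m with h0 | h0
      · exact Subfield.subset_closure (Set.mem_insert_of_mem _ (hinv0 g P hP (hm.trans h0)))
      obtain ⟨k, hk⟩ := hdvd g P hP
      let c := P.leadingCoeff / Ps.leadingCoeff ^ k
      have hc : c ∈ invariants ψ := div_mem (hlead g P hP) (pow_mem (hlead s Ps hPs) k)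
      have hP' : ψ (g - c * s ^ k) = algebraMap F[X] (RatFunc F) (P - C c * Ps ^ k) := by
        rw [map_sub, map_mul, map_pow, hP, hPs, map_sub, map_mul, map_pow, RatFunc.algebraMap_C,
          (mem_invariants ψ).mp hc]
      have hlt : (P - C c * Ps ^ k).natDegree < m := by
        have hc0 : c ≠ 0 := div_ne_zero (leadingCoeff_ne_zero.mpr fun h => by rw [h, natDegree_zero] at hm; omega)
          (pow_ne_zero _ hPs0)
        have hn : (C c * Ps ^ k).natDegree = P.natDegree := by
          rw [natDegree_C_mul hc0, natDegree_pow, hPsd, hk, mul_comm]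
        by_cases hz : P - C c * Ps ^ k = 0
        · rw [hz, natDegree_zero]; exact h0
        have hne : P ≠ 0 := fun h => by rw [h, natDegree_zero] at hm; omega
        refine hm ▸ natDegree_lt_natDegree hz (degree_sub_lt ?_ hne ?_)
        · rw [degree_eq_natDegree hne, degree_eq_natDegree (mul_ne_zero (C_ne_zero.mpr hc0) (pow_ne_zero _ (leadingCoeff_ne_zero.mp hPs0))), hn]
        · rw [leadingCoeff_mul, leadingCoeff_C, leadingCoeff_pow, div_mul_cancel₀ _ (pow_ne_zero _ hPs0)]
      have hrec := ih _ hlt _ _ rfl hP'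
      have hadd := add_mem hrec (mul_mem (Subfield.subset_closure (Set.mem_insert_of_mem s hc))
        (pow_mem (Subfield.subset_closure (Set.mem_insert s (invariants ψ : Set F))) k))
      rwa [sub_add_cancel] at hadd
  · intro q hq hqs
    have h1 : q.comp Ps = 0 := by
      apply RatFunc.algebraMap_injective F
      rw [map_zero, ← map_zero ψ, ← hqs, eval_eq_sum_range, map_sum, comp, eval₂_eq_sum_range, map_sum]
      refine Finset.sum_congr rfl fun i _ => ?_
      rw [map_mul, map_mul, map_pow, map_pow, hPs, (mem_invariants ψ).mp (hq i), RatFunc.algebraMap_C]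
    rcases comp_eq_zero_iff.mp h1 with h | ⟨-, h⟩
    · exact h
    · rw [h, natDegree_C] at hPsd; omega

theorem isSplitBy_mul
    (hε : ∀ f : F, (ψ f).denom.eval 1 ≠ 0 ∧ f = (ψ f).num.eval 1 / (ψ f).denom.eval 1)
    (hcoc : ∀ f : F, ((ψ f).num).map ψ * ((ψ f).denom.map RatFunc.C).comp (C RatFunc.X * X) =
      ((ψ f).denom).map ψ * ((ψ f).num.map RatFunc.C).comp (C RatFunc.X * X))
    (hnt : ∃ f : F, ψ f ≠ RatFunc.C f) : ∃ s : F, IsSplitBy ψ s := by
  classical
  have hX : (RatFunc.X : RatFunc F) ≠ 0 := RatFunc.X_ne_zero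
  let W : Set F := {g | ∃ j : ℤ, ψ g = RatFunc.C g * RatFunc.X ^ j}
  -- coefficients are semi-invariant
  have hW : ∀ f j, (ψ f).num.coeff j ∈ W ∧ (ψ f).denom.coeff j ∈ W := by
    intro f j
    set P := (ψ f).num with hP
    set Q := (ψ f).denom with hQ
    set n := Q.natDegree with hn
    let φ := (compRingHom (C RatFunc.X * X : (RatFunc F)[X])).comp (mapRingHom RatFunc.C)
    have hcomp : ∀ p : F[X], ∀ i, (φ p).coeff i = RatFunc.C (p.coeff i) * RatFunc.X ^ i := fun p i => by
      show ((p.map RatFunc.C).comp (C RatFunc.X * X)).coeff i = _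
      rw [comp_C_mul_X_coeff, coeff_map]
    let B' := C ((RatFunc.X : RatFunc F) ^ n)⁻¹ * φ Q
    let A' := C ((RatFunc.X : RatFunc F) ^ n)⁻¹ * φ P
    have hdegB : (φ Q).natDegree ≤ n := by
      refine natDegree_le_iff_coeff_eq_zero.mpr fun i hi => ?_
      rw [hcomp, coeff_eq_zero_of_natDegree_lt hi, map_zero, zero_mul]
    have hB' : B'.Monic := by
      refine monic_of_natDegree_le_of_coeff_eq_one n (natDegree_C_mul_le _ _ |>.trans hdegB) ?_
      rw [coeff_C_mul, hcomp, show Q.coeff n = 1 from RatFunc.monic_denom _, map_one, one_mul,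
        inv_mul_cancel₀ (pow_ne_zero _ hX)]
    have hu : IsUnit (C ((RatFunc.X : RatFunc F) ^ n)⁻¹) := isUnit_C.mpr (Ne.isUnit (inv_ne_zero (pow_ne_zero _ hX)))
    have hco : IsCoprime A' B' := ((isCoprime_mul_unit_left hu _ _).mpr ((RatFunc.isCoprime_num_denom (ψ f)).map φ))
    obtain ⟨e1, e2⟩ := monic_fraction_unique ((RatFunc.monic_denom (ψ f)).map ψ) hB'
      ((RatFunc.isCoprime_num_denom (ψ f)).map (mapRingHom ψ)) hco (by
        show (P.map ψ) * (C _ * φ Q) = Q.map ψ * (C _ * φ P)
        rw [mul_left_comm, mul_left_comm (Q.map ψ)]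
        exact congrArg _ (hcoc f))
    have e : ∀ p : F[X], p.map ψ = C ((RatFunc.X : RatFunc F) ^ n)⁻¹ * φ p → ψ (p.coeff j) = RatFunc.C (p.coeff j) * RatFunc.X ^ ((j : ℤ) - n) := by
      intro p hp
      have := congrArg (fun q => q.coeff j) hp
      simp only [coeff_map, coeff_C_mul, hcomp] at this
      rw [this, zpow_sub₀ hX, zpow_natCast, zpow_natCast, div_eq_mul_inv]
      ring
    exact ⟨⟨_, e P e1⟩, ⟨_, e Q e2⟩⟩
  have hgenW : ∀ f : F, f ∈ Subfield.closure W := by
    intro f
    rw [(hε f).2, eval_eq_sum_range, eval_eq_sum_range]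
    exact div_mem (sum_mem fun i _ => mul_mem (Subfield.subset_closure (hW f i).1) (pow_mem (one_mem _) i))
      (sum_mem fun i _ => mul_mem (Subfield.subset_closure (hW f i).2) (pow_mem (one_mem _) i))
  have hex : ∃ d : ℕ, 0 < d ∧ ∃ g ≠ 0, ψ g = RatFunc.C g * RatFunc.X ^ (d : ℤ) := by
    by_contra hne
    push Not at hne
    obtain ⟨f, hf⟩ := hnt
    refine hf ?_
    have hle : Subfield.closure W ≤ invariants ψ := Subfield.closure_le.mpr fun g ⟨j, hj⟩ => by
      rw [SetLike.mem_coe, mem_invariants]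
      by_cases hg : g = 0
      · simp [hg]
      rcases lt_trichotomy j 0 with h | rfl | h
      · refine absurd ?_ (hne (-j).toNat (by omega) g⁻¹ (inv_ne_zero hg))
        rw [map_inv₀, hj, map_inv₀, Int.toNat_of_nonneg (by omega), zpow_neg, mul_inv]
      · simpa using hj
      · refine absurd ?_ (hne j.toNat (by omega) g hg)
        rwa [Int.toNat_of_nonneg h.le]
    exact hle (hgenW f)
  obtain ⟨d, ⟨hd0, s, hs0, hs⟩, hmin⟩ : ∃ d : ℕ, (0 < d ∧ ∃ g ≠ 0, ψ g = RatFunc.C g * RatFunc.X ^ (d : ℤ)) ∧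
      ∀ d' : ℕ, 0 < d' → (∃ g ≠ 0, ψ g = RatFunc.C g * RatFunc.X ^ (d' : ℤ)) → d ≤ d' :=
    ⟨Nat.find hex, Nat.find_spec hex, fun d' h h' => Nat.find_min' hex ⟨h, h'⟩⟩
  refine ⟨s, ?_, ?_⟩
  · rw [eq_top_iff]
    intro f _
    refine Subfield.closure_le.mpr ?_ (hgenW f)
    rintro g ⟨j, hj⟩
    by_cases hg : g = 0
    · subst hg; exact zero_mem _
    have hl : ψ (g / s ^ (j / d)) = RatFunc.C (g / s ^ (j / d)) * RatFunc.X ^ (j % d) := by
      rw [map_div₀, map_zpow₀, hj, hs, map_div₀, map_zpow₀, mul_zpow, ← zpow_mul, mul_div_mul_comm,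
        ← zpow_sub₀ hX, Int.emod_def]
    rcases (Int.emod_nonneg j (by omega : (d : ℤ) ≠ 0)).eq_or_lt with h | h
    · rw [← h, zpow_zero, mul_one] at hl
      have hmem := mul_mem (Subfield.subset_closure (s := insert s (invariants ψ : Set F)) (Set.mem_insert_of_mem s hl))
        (zpow_mem (Subfield.subset_closure (Set.mem_insert s (invariants ψ : Set F))) (j / d))
      rwa [div_mul_cancel₀ _ (zpow_ne_zero _ hs0)] at hmem
    · exfalso
      have hlt : j % (d : ℤ) < d := Int.emod_lt_of_pos j (by omega)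
      have := hmin (j % d).toNat (by omega) ⟨_, div_ne_zero hg (zpow_ne_zero _ hs0), by
        rwa [Int.toNat_of_nonneg h.le]⟩
      omega
  · intro q hq hqs
    have h1 : q.comp (C s * X ^ d) = 0 := by
      apply RatFunc.algebraMap_injective F
      rw [map_zero, ← map_zero ψ, ← hqs, eval_eq_sum_range, map_sum, comp, eval₂_eq_sum_range, map_sum]
      refine Finset.sum_congr rfl fun i _ => ?_
      rw [map_mul, map_mul, map_pow, map_pow, map_mul, hs, (mem_invariants ψ).mp (hq i), RatFunc.algebraMap_C,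
        RatFunc.algebraMap_C, map_pow, RatFunc.algebraMap_X, zpow_natCast]
    rcases comp_eq_zero_iff.mp h1 with h | ⟨-, h⟩
    · exact h
    · have := congrArg natDegree h
      rw [natDegree_C_mul_X_pow d s hs0, natDegree_C] at this
      omega

end Groth.Agent.BddFinBirat
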