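import Mathlib.AlgebraicGeometry.AffineSpace
import Mathlib.AlgebraicGeometry.FunctionField
import Mathlib.AlgebraicGeometry.Morphisms.FiniteType
import Mathlib.Algebra.Field.Subfield.Basic
import Mathlib.RingTheory.Localization.Away.Basic
import Mathlib.RingTheory.FiniteType

/-!
# Birational models of a purely transcendental extension of degree one
-/

universe u

open CategoryTheory AlgebraicGeometry

namespace Groth.Agent.BddFinBirat

theorem exists_polys {F : Type u} [Field F] (L : Subfield F) (s : F)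
    (h : Subfield.closure (insert s (L : Set F)) = ⊤) (x : F) :
    ∃ P Q : Polynomial F, (∀ i, P.coeff i ∈ L) ∧ (∀ i, Q.coeff i ∈ L) ∧ Q.eval s ≠ 0 ∧ x * Q.eval s = P.eval s := by
  have hring : ∀ y ∈ Subring.closure (insert s (L : Set F)), ∃ P : Polynomial F, (∀ i, P.coeff i ∈ L) ∧ P.eval s = y := by
    intro y hy
    induction hy using Subring.closure_induction with
    | mem z hz =>
      rcases hz with rfl | hz
      · exact ⟨Polynomial.X, fun i => by rw [Polynomial.coeff_X]; split <;> simp [one_mem, zero_mem], Polynomial.eval_X⟩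
      · exact ⟨Polynomial.C z, fun i => by rw [Polynomial.coeff_C]; split; exacts [hz, zero_mem _], Polynomial.eval_C⟩
    | zero => exact ⟨0, fun i => by simp [zero_mem], Polynomial.eval_zero⟩
    | one => exact ⟨1, fun i => by rw [Polynomial.coeff_one]; split <;> simp [one_mem, zero_mem], Polynomial.eval_one⟩
    | add a b _ _ ha hb =>
      obtain ⟨P, hP, rfl⟩ := ha
      obtain ⟨Q, hQ, rfl⟩ := hb
      exact ⟨P + Q, fun i => by rw [Polynomial.coeff_add]; exact add_mem (hP i) (hQ i), Polynomial.eval_add⟩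
    | neg a _ ha =>
      obtain ⟨P, hP, rfl⟩ := ha
      exact ⟨-P, fun i => by rw [Polynomial.coeff_neg]; exact neg_mem (hP i), Polynomial.eval_neg P s⟩
    | mul a b _ _ ha hb =>
      obtain ⟨P, hP, rfl⟩ := ha
      obtain ⟨Q, hQ, rfl⟩ := hb
      exact ⟨P * Q, fun i => by rw [Polynomial.coeff_mul]; exact sum_mem fun j _ => mul_mem (hP _) (hQ _), Polynomial.eval_mul⟩
  obtain ⟨y, hy, z, hz, rfl⟩ := Subfield.mem_closure_iff.mp (show x ∈ Subfield.closure (insert s (L : Set F)) by rw [h]; trivial)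
  by_cases hz0 : z = 0
  · refine ⟨0, 1, fun i => by simp [zero_mem], fun i => by rw [Polynomial.coeff_one]; split <;> simp [one_mem, zero_mem], by simp, ?_⟩
    simp [hz0]
  obtain ⟨P, hP, hPy⟩ := hring y hy
  obtain ⟨Q, hQ, hQz⟩ := hring z hz
  exact ⟨P, Q, hP, hQ, hQz ▸ hz0, by rw [hQz, hPy, div_mul_cancel₀ _ hz0]⟩

/-- Two subrings with a common localization inside a field. -/
theorem exists_common_localization {K F : Type u} [Field K] [Field F] [Algebra K F] {R C : Type u} [CommRing R]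
    [CommRing C] [Algebra K R] [Algebra K C] (i : R →ₐ[K] F) (i' : C →ₐ[K] F) (hi : Function.Injective i)
    (hi' : Function.Injective i') {b : C} (hb : i' b ≠ 0) (hR : ∀ r, ∃ (n : ℕ) (c : C), i r * i' b ^ n = i' c)
    {r₀ : R} (hr₀ : i r₀ ≠ 0) (hC : ∀ c, ∃ (n : ℕ) (r : R), i' c * i r₀ ^ n = i r) :
    ∃ (u : R) (v : C) (_ : u ≠ 0), Nonempty (Localization.Away u ≃ₐ[K] Localization.Away v) := by
  obtain ⟨m, c₁, hc₁⟩ := hR r₀
  obtain ⟨k, u₁, hu₁⟩ := hC b
  have hc₁0 : i' c₁ ≠ 0 := by rw [← hc₁]; exact mul_ne_zero hr₀ (pow_ne_zero _ hb)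
  have hu₁0 : i u₁ ≠ 0 := by rw [← hu₁]; exact mul_ne_zero hb (pow_ne_zero _ hr₀)
  set u := r₀ * u₁ with hu
  set v := b * c₁ with hv
  have huF : i u ≠ 0 := by rw [hu, map_mul]; exact mul_ne_zero hr₀ hu₁0
  have hvF : i' v ≠ 0 := by rw [hv, map_mul]; exact mul_ne_zero hb hc₁0
  let φ : Localization.Away u →ₐ[K] F := IsLocalization.liftAlgHom (M := Submonoid.powers u) (f := i) fun y => by
    obtain ⟨_, n, rfl⟩ := y
    exact Ne.isUnit (by simpa using pow_ne_zero n huF)
  let φ' : Localization.Away v →ₐ[K] F := IsLocalization.liftAlgHom (M := Submonoid.powers v) (f := i') fun y => by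
    obtain ⟨_, n, rfl⟩ := y
    exact Ne.isUnit (by simpa using pow_ne_zero n hvF)
  have hφ : ∀ r, φ (algebraMap R _ r) = i r := fun r => by simp [φ, IsLocalization.lift_eq]
  have hφ' : ∀ c, φ' (algebraMap C _ c) = i' c := fun c => by simp [φ', IsLocalization.lift_eq]
  have hinj : Function.Injective φ := by
    refine (IsLocalization.lift_injective_iff _).mpr fun x y => ⟨fun h => ?_, fun h => ?_⟩
    · have := congrArg φ h; rwa [hφ, hφ] at this
    · rw [hi h]
  have hinj' : Function.Injective φ' := by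
    refine (IsLocalization.lift_injective_iff _).mpr fun x y => ⟨fun h => ?_, fun h => ?_⟩
    · have := congrArg φ' h; rwa [hφ', hφ'] at this
    · rw [hi' h]
  -- inverses of `u` and `v`
  have hiu : (i u)⁻¹ ∈ φ.range := ⟨IsLocalization.Away.invSelf u, eq_inv_of_mul_eq_one_right (by
    have := congrArg φ (IsLocalization.Away.mul_invSelf (S := Localization.Away u) u)
    rwa [map_mul, map_one, hφ] at this)⟩
  have hiv : (i' v)⁻¹ ∈ φ'.range := ⟨IsLocalization.Away.invSelf v, eq_inv_of_mul_eq_one_right (by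
    have := congrArg φ' (IsLocalization.Away.mul_invSelf (S := Localization.Away v) v)
    rwa [map_mul, map_one, hφ'] at this)⟩
  have mR : ∀ r, i r ∈ φ.range := fun r => ⟨_, hφ r⟩
  have mC : ∀ c, i' c ∈ φ'.range := fun c => ⟨_, hφ' c⟩
  have hr₀inv : (i r₀)⁻¹ ∈ φ.range := by
    have : (i r₀)⁻¹ = i u₁ * (i u)⁻¹ := by rw [hu, map_mul]; field_simp
    rw [this]; exact mul_mem (mR _) hiu
  have hbinv : (i' b)⁻¹ ∈ φ'.range := by
    have : (i' b)⁻¹ = i' c₁ * (i' v)⁻¹ := by rw [hv, map_mul]; field_simp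
    rw [this]; exact mul_mem (mC _) hiv
  have hle : φ'.range ≤ φ.range := by
    have hbinv' : (i' b)⁻¹ ∈ φ.range := by
      have : (i' b)⁻¹ = i r₀ ^ k * (i u₁)⁻¹ := by rw [← hu₁]; field_simp
      have h2 : (i u₁)⁻¹ = i r₀ * (i u)⁻¹ := by rw [hu, map_mul]; field_simp
      rw [this, h2]; exact mul_mem (pow_mem (mR _) _) (mul_mem (mR _) hiu)
    have mC' : ∀ c, i' c ∈ φ.range := fun c => by
      obtain ⟨n, r, hr⟩ := hC c
      have : i' c = i r * (i r₀)⁻¹ ^ n := by rw [← hr, inv_pow]; field_simp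
      rw [this]; exact mul_mem (mR _) (pow_mem hr₀inv _)
    have hivφ : (i' v)⁻¹ ∈ φ.range := by
      have : (i' v)⁻¹ = (i' b)⁻¹ * ((i r₀)⁻¹ * (i' b)⁻¹ ^ m) := by
        rw [hv, map_mul, ← hc₁, inv_pow]; field_simp
      rw [this]; exact mul_mem hbinv' (mul_mem hr₀inv (pow_mem hbinv' _))
    rintro _ ⟨z, rfl⟩
    obtain ⟨⟨c, ⟨_, n, rfl⟩⟩, hz⟩ := IsLocalization.surj (Submonoid.powers v) z
    have : φ' z = i' c * ((i' v)⁻¹) ^ n := by
      have h := congrArg φ' hz
      simp only [map_mul, hφ', map_pow] at h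
      rw [← h, inv_pow]; field_simp
    show φ' z ∈ φ.range
    rw [this]; exact mul_mem (mC' _) (pow_mem hivφ _)
  have hge : φ.range ≤ φ'.range := by
    have mR' : ∀ r, i r ∈ φ'.range := fun r => by
      obtain ⟨n, c, hc⟩ := hR r
      have : i r = i' c * (i' b)⁻¹ ^ n := by rw [← hc, inv_pow]; field_simp
      rw [this]; exact mul_mem (mC _) (pow_mem hbinv _)
    have hr₀inv' : (i r₀)⁻¹ ∈ φ'.range := by
      have : (i r₀)⁻¹ = i' b ^ m * (i' c₁)⁻¹ := by rw [← hc₁]; field_simp
      have h2 : (i' c₁)⁻¹ = i' b * (i' v)⁻¹ := by rw [hv, map_mul]; field_simp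
      rw [this, h2]; exact mul_mem (pow_mem (mC _) _) (mul_mem (mC _) hiv)
    have hiuφ : (i u)⁻¹ ∈ φ'.range := by
      have : (i u)⁻¹ = (i r₀)⁻¹ * ((i' b)⁻¹ * (i r₀)⁻¹ ^ k) := by
        rw [hu, map_mul, ← hu₁, inv_pow]; field_simp
      rw [this]; exact mul_mem hr₀inv' (mul_mem hbinv (pow_mem hr₀inv' _))
    rintro _ ⟨z, rfl⟩
    obtain ⟨⟨r, ⟨_, n, rfl⟩⟩, hz⟩ := IsLocalization.surj (Submonoid.powers u) z
    have : φ z = i r * ((i u)⁻¹) ^ n := by
      have h := congrArg φ hz
      simp only [map_mul, hφ, map_pow] at h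
      rw [← h, inv_pow]; field_simp
    show φ z ∈ φ'.range
    rw [this]; exact mul_mem (mR' _) (pow_mem hiuφ _)
  refine ⟨u, v, fun h => huF (by rw [h, map_zero]), ⟨?_⟩⟩
  exact (AlgEquiv.ofInjective φ hinj).trans ((Subalgebra.equivOfEq _ _ (le_antisymm hge hle)).trans
    (AlgEquiv.ofInjective φ' hinj').symm)

/-- An integral scheme whose function field is `L(s)` with `s` transcendental is birational to `𝔸¹ × Y`. -/
theorem exists_model {K : Type u} [Field K] (X : Over (Spec (CommRingCat.of K))) [IsIntegral X.left]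
    [LocallyOfFiniteType X.hom] [Algebra K X.left.functionField]
    (halg : Spec.map (CommRingCat.ofHom (algebraMap K X.left.functionField)) =
      X.left.fromSpecStalk (genericPoint X.left) ≫ X.hom)
    (L : Subfield X.left.functionField) (hK : ∀ c, algebraMap K X.left.functionField c ∈ L) (s : X.left.functionField)
    (hgen : Subfield.closure (insert s (L : Set X.left.functionField)) = ⊤)
    (htr : ∀ q : Polynomial X.left.functionField, (∀ i, q.coeff i ∈ L) → q.eval s = 0 → q = 0) :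
    ∃ (Y : Over (Spec (CommRingCat.of K))) (_ : IsIntegral Y.left) (_ : LocallyOfFiniteType Y.hom)
      (U : X.left.Opens) (V : (𝔸(ULift.{u} (Fin 1); Y.left)).Opens), (U : Set X.left).Nonempty ∧
      Nonempty (Over.mk (U.ι ≫ X.hom) ≅
        Over.mk (V.ι ≫ (𝔸(ULift.{u} (Fin 1); Y.left) ↘ Y.left) ≫ Y.hom)) := by
  classical
  let F : Type u := X.left.functionField
  obtain ⟨U₀, hU₀, hξ, -⟩ := exists_isAffineOpen_mem_and_subset (x := genericPoint X.left) (U := (⊤ : X.left.Opens)) trivial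
  haveI : Nonempty (U₀ : X.left.Opens) := ⟨⟨_, hξ⟩⟩
  haveI := functionField_isFractionRing_of_isAffineOpen X.left U₀ hU₀
  obtain ⟨φ, hφ⟩ := Spec.map_surjective (hU₀.fromSpec ≫ X.hom)
  letI : Algebra K Γ(X.left, U₀) := φ.hom.toAlgebra
  haveI : Algebra.FiniteType K Γ(X.left, U₀) := by
    have : LocallyOfFiniteType (Spec.map φ) := hφ ▸ inferInstance
    exact (HasRingHomProperty.Spec_iff (P := @LocallyOfFiniteType)).mp this
  have hcompat : ∀ c : K, X.left.presheaf.germ U₀ _ hξ (algebraMap K Γ(X.left, U₀) c) = algebraMap K F c := by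
    intro c
    have h : Spec.map (CommRingCat.ofHom (algebraMap K F)) = Spec.map (φ ≫ X.left.presheaf.germ U₀ _ hξ) := by
      rw [halg, ← hU₀.fromSpecStalk_eq_fromSpecStalk hξ, IsAffineOpen.fromSpecStalk, Category.assoc, ← hφ,
        ← Spec.map_comp]
    exact (congr($(Spec.map_injective h) c)).symm
  let i : Γ(X.left, U₀) →ₐ[K] F := AlgHom.mk (X.left.presheaf.germ U₀ _ hξ).hom hcompat
  have hi : Function.Injective i := germ_injective_of_isIntegral X.left _ hξ
  obtain ⟨t, ht⟩ := (Algebra.FiniteType.out : (⊤ : Subalgebra K Γ(X.left, U₀)).FG)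
  choose P Q hP hQ hQ0 hPQ using fun r : Γ(X.left, U₀) => exists_polys L s hgen (i r)
  let co : Finset F := t.biUnion fun r => ((P r).support.image (P r).coeff) ∪ ((Q r).support.image (Q r).coeff)
  let B : Subalgebra K F := Algebra.adjoin K (co : Set F)
  have hBL : ∀ x ∈ B, x ∈ L := by
    intro x hx
    induction hx using Algebra.adjoin_induction with
    | mem y hy =>
      obtain ⟨r, -, hr⟩ := Finset.mem_biUnion.mp hy
      rcases Finset.mem_union.mp hr with h | h <;> obtain ⟨j, -, rfl⟩ := Finset.mem_image.mp h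
      exacts [hP r j, hQ r j]
    | algebraMap c => exact hK c
    | add a b _ _ ha hb => exact add_mem ha hb
    | mul a b _ _ ha hb => exact mul_mem ha hb
  haveI : Algebra.FiniteType K B := ⟨(Subalgebra.fg_top B).mpr ⟨co, rfl⟩⟩
  let σ := ULift.{u} (Fin 1)
  let i' : MvPolynomial σ B →ₐ[K] F := (MvPolynomial.aeval (fun _ : σ => s)).restrictScalars K
  have hi' : Function.Injective i' := by
    rw [injective_iff_map_eq_zero]
    intro p hp
    let e := MvPolynomial.uniqueAlgEquiv B σ
    have h1 : Polynomial.aeval s (e p) = 0 := by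
      rw [← hp]
      show ((Polynomial.aeval s).comp e.toAlgHom) p = (MvPolynomial.aeval (fun _ : σ => s)) p
      congr 1
      exact MvPolynomial.algHom_ext fun j => by simp [e]
    have h2 := htr ((e p).map (algebraMap B F)) (fun j => by rw [Polynomial.coeff_map]; exact hBL _ ((e p).coeff j).2)
      (by rwa [Polynomial.eval_map, ← Polynomial.aeval_def])
    apply e.injective
    rw [map_zero]
    exact (Polynomial.map_eq_zero_iff (f := algebraMap B F) Subtype.val_injective).mp h2
  -- polynomials with coefficients in `B`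
  have hmem : ∀ p : Polynomial F, (∀ j, p.coeff j ∈ B) → p.eval s ∈ i'.range := by
    intro p hp
    rw [Polynomial.eval_eq_sum_range]
    have hC' : ∀ j, p.coeff j ∈ i'.range := fun j => ⟨MvPolynomial.C ⟨_, hp j⟩, (MvPolynomial.aeval_C (fun _ : σ => s) (⟨_, hp j⟩ : B)).trans rfl⟩
    have hs : s ∈ i'.range := ⟨MvPolynomial.X ⟨0⟩, by simp [i']⟩
    exact sum_mem fun j _ => mul_mem (hC' j) (pow_mem hs _)
  have hcoB : ∀ r ∈ t, (∀ j, (P r).coeff j ∈ B) ∧ ∀ j, (Q r).coeff j ∈ B := by
    intro r hr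
    constructor <;> intro j
    · by_cases h : j ∈ (P r).support
      · exact Algebra.subset_adjoin (Finset.mem_biUnion.mpr ⟨r, hr, Finset.mem_union_left _ (Finset.mem_image_of_mem _ h)⟩)
      · rw [Polynomial.notMem_support_iff.mp h]; exact zero_mem _
    · by_cases h : j ∈ (Q r).support
      · exact Algebra.subset_adjoin (Finset.mem_biUnion.mpr ⟨r, hr, Finset.mem_union_right _ (Finset.mem_image_of_mem _ h)⟩)
      · rw [Polynomial.notMem_support_iff.mp h]; exact zero_mem _
  choose b' hb' using fun r : t => hmem _ (hcoB r r.2).2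
  let b := ∏ r : t, b' r
  have hb'' : ∀ r : t, i' (b' r) = (Q r).eval s := hb'
  have hb : i' b ≠ 0 := by rw [map_prod]; exact Finset.prod_ne_zero_iff.mpr fun r _ => by rw [hb'']; exact hQ0 r
  have hR : ∀ r, ∃ (n : ℕ) (c : MvPolynomial σ B), i r * i' b ^ n = i' c := by
    intro r
    have hr : r ∈ Algebra.adjoin K (t : Set Γ(X.left, U₀)) := by rw [ht]; trivial
    induction hr using Algebra.adjoin_induction with
    | mem y hy =>
      obtain ⟨c, hc⟩ := hmem _ (hcoB y hy).1
      refine ⟨1, c * ∏ z ∈ Finset.univ.erase ⟨y, hy⟩, b' z, ?_⟩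
      have hc' : i' c = (P y).eval s := hc
      rw [map_mul, hc', pow_one, ← hPQ, mul_assoc, ← hb'' ⟨y, hy⟩, ← map_mul, Finset.mul_prod_erase _ _ (Finset.mem_univ _)]
    | algebraMap c => exact ⟨0, algebraMap K _ c, by rw [pow_zero, _root_.mul_one, AlgHom.commutes, AlgHom.commutes]⟩
    | add x y _ _ hx hy =>
      obtain ⟨n, c, hc⟩ := hx
      obtain ⟨m, d, hd⟩ := hy
      exact ⟨n + m, c * b ^ m + d * b ^ n, by simp only [map_add, map_mul, map_pow, ← hc, ← hd, pow_add]; ring⟩
    | mul x y _ _ hx hy =>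
      obtain ⟨n, c, hc⟩ := hx
      obtain ⟨m, d, hd⟩ := hy
      exact ⟨n + m, c * d, by simp only [map_mul, ← hc, ← hd, pow_add]; ring⟩
  -- denominators for the polynomial ring
  haveI : Algebra.FiniteType K (MvPolynomial σ B) := Algebra.FiniteType.trans (S := B) inferInstance inferInstance
  obtain ⟨w, hw⟩ := (Algebra.FiniteType.out : (⊤ : Subalgebra K (MvPolynomial σ B)).FG)
  choose num den hnd using fun c : MvPolynomial σ B =>
    IsFractionRing.div_surjective (A := Γ(X.left, U₀)) (K := F) (i' c)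
  let r₀ := ∏ c ∈ w, den c
  have hr₀ : i r₀ ≠ 0 := by
    rw [map_prod]
    exact Finset.prod_ne_zero_iff.mpr fun c _ => (map_ne_zero_iff i hi).mpr (nonZeroDivisors.ne_zero (hnd c).1)
  have hC : ∀ c, ∃ (n : ℕ) (r : Γ(X.left, U₀)), i' c * i r₀ ^ n = i r := by
    intro c
    have hc : c ∈ Algebra.adjoin K (w : Set (MvPolynomial σ B)) := by rw [hw]; trivial
    induction hc using Algebra.adjoin_induction with
    | mem y hy =>
      refine ⟨1, num y * ∏ z ∈ w.erase y, den z, ?_⟩
      have hd0 : i (den y) ≠ 0 := (map_ne_zero_iff i hi).mpr (nonZeroDivisors.ne_zero (hnd y).1)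
      have he : i' y * i (den y) = i (num y) := ((eq_div_iff hd0).mp (hnd y).2.symm)
      rw [pow_one, map_mul, ← he, mul_assoc, ← map_mul, Finset.mul_prod_erase _ _ hy]
    | algebraMap c => exact ⟨0, algebraMap K _ c, by rw [pow_zero, _root_.mul_one, AlgHom.commutes, AlgHom.commutes]⟩
    | add x y _ _ hx hy =>
      obtain ⟨n, c, hc⟩ := hx
      obtain ⟨m, d, hd⟩ := hy
      exact ⟨n + m, c * r₀ ^ m + d * r₀ ^ n, by simp only [map_add, map_mul, map_pow, ← hc, ← hd, pow_add]; ring⟩
    | mul x y _ _ hx hy =>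
      obtain ⟨n, c, hc⟩ := hx
      obtain ⟨m, d, hd⟩ := hy
      exact ⟨n + m, c * d, by simp only [map_mul, ← hc, ← hd, pow_add]; ring⟩
  obtain ⟨u, v, hu, ⟨E⟩⟩ := exists_common_localization i i' hi hi' hb hR hr₀ hC
  -- the schemes
  let Y : Over (Spec (CommRingCat.of K)) := Over.mk (Spec.map (CommRingCat.ofHom (algebraMap K B)))
  haveI : IsIntegral Y.left := inferInstanceAs (IsIntegral (Spec (CommRingCat.of B)))
  haveI : LocallyOfFiniteType Y.hom :=
    (HasRingHomProperty.Spec_iff (P := @LocallyOfFiniteType)).mpr (RingHom.finiteType_algebraMap.mpr inferInstance)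
  let jU : Spec (CommRingCat.of (Localization.Away u)) ⟶ X.left :=
    Spec.map (CommRingCat.ofHom (algebraMap Γ(X.left, U₀) (Localization.Away u))) ≫ hU₀.fromSpec
  let jV : Spec (CommRingCat.of (Localization.Away v)) ⟶ 𝔸(σ; Y.left) :=
    Spec.map (CommRingCat.ofHom (algebraMap (MvPolynomial σ B) (Localization.Away v))) ≫
      (AffineSpace.SpecIso σ (CommRingCat.of B)).inv
  haveI : IsOpenImmersion (Spec.map (CommRingCat.ofHom (algebraMap Γ(X.left, U₀) (Localization.Away u)))) :=
    IsOpenImmersion.of_isLocalization u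
  haveI : IsOpenImmersion (Spec.map (CommRingCat.ofHom (algebraMap (MvPolynomial σ B) (Localization.Away v)))) :=
    IsOpenImmersion.of_isLocalization v
  haveI : IsOpenImmersion hU₀.fromSpec := hU₀.isOpenImmersion_fromSpec
  haveI : IsOpenImmersion jU := inferInstance
  haveI : IsOpenImmersion jV := inferInstance
  haveI : Nonempty (Spec (CommRingCat.of (Localization.Away u))) := by
    haveI : IsDomain (Localization.Away u) :=
      IsLocalization.isDomain_localization (powers_le_nonZeroDivisors_of_noZeroDivisors hu)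
    exact inferInstanceAs (Nonempty (PrimeSpectrum (Localization.Away u)))
  refine ⟨Y, inferInstance, inferInstance, jU.opensRange, jV.opensRange,
    ⟨_, Set.mem_range_self (Classical.arbitrary _)⟩, ⟨?_⟩⟩
  refine Over.isoMk (jU.isoOpensRange.symm ≪≫ Scheme.Spec.mapIso E.symm.toRingEquiv.toCommRingCatIso.op ≪≫
    jV.isoOpensRange) ?_
  show (jU.isoOpensRange.inv ≫ Spec.map (CommRingCat.ofHom E.symm.toRingHom) ≫ jV.isoOpensRange.hom) ≫
    jV.opensRange.ι ≫ (𝔸(σ; Y.left) ↘ Y.left) ≫ Y.hom = jU.opensRange.ι ≫ X.hom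
  rw [← cancel_epi jU.isoOpensRange.hom]
  simp only [Category.assoc, Iso.hom_inv_id_assoc]
  rw [← Category.assoc jV.isoOpensRange.hom, Scheme.Hom.isoOpensRange_hom_ι, ← Category.assoc jU.isoOpensRange.hom,
    Scheme.Hom.isoOpensRange_hom_ι]
  simp only [jU, jV, Category.assoc]
  erw [AffineSpace.SpecIso_inv_over_assoc]
  rw [← hφ]
  show Spec.map _ ≫ Spec.map _ ≫ Spec.map _ ≫ Spec.map _ = Spec.map _ ≫ Spec.map φ
  rw [← Spec.map_comp, ← Spec.map_comp, ← Spec.map_comp, ← Spec.map_comp]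
  congr 1
  ext c
  show E.symm (algebraMap (MvPolynomial σ B) _ (MvPolynomial.C (algebraMap K B c))) =
    algebraMap Γ(X.left, U₀) _ (algebraMap K Γ(X.left, U₀) c)
  rw [show MvPolynomial.C (algebraMap K B c) = algebraMap K (MvPolynomial σ B) c from rfl,
    ← IsScalarTower.algebraMap_apply, ← IsScalarTower.algebraMap_apply, AlgEquiv.commutes]

end Groth.Agent.BddFinBirat
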