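import Groth.Agent.BddFinBirat.Cocycle
import Groth.Agent.BddFinBirat.Model
import Groth.Agent.BddFinSmooth.MaxPoints
import Groth.Agent.FBaseLib.Product
import Groth.Agent.GrpSchLib.SmoothReduced

/-!
# Varieties with a nontrivial action of a line group are ruled
-/

universe u

open CategoryTheory CategoryTheory.Limits MonoidalCategory CartesianMonoidalCategory MonObj AlgebraicGeometry

namespace Groth.Agent.BddFinBirat

open GrpSchLib Kunneth AffineHopf LineGroups

variable {K : Type u} [Field K]

theorem isPullback_whiskerLeft' {G Y X : Over (Spec (CommRingCat.of K))} (f : Y ⟶ X) :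
    IsPullback (G ◁ f).left (snd G Y).left (snd G X).left f.left := by
  suffices hpb : IsPullback (G ◁ f) (snd G Y) (snd G X) f from hpb.map (Over.forget _)
  refine IsPullback.of_isLimit' ⟨whiskerLeft_snd _ _⟩
    (Limits.PullbackCone.IsLimit.mk _ (fun s => lift (s.fst ≫ fst G X) s.snd) (fun s => ?_) (fun s => lift_snd _ _)
      (fun s m h₁ h₂ => ?_))
  · apply CartesianMonoidalCategory.hom_ext
    · simp
    · simpa using s.condition.symm
  · apply CartesianMonoidalCategory.hom_ext
    · rw [lift_fst, ← h₁, Category.assoc, whiskerLeft_fst]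
    · rw [lift_snd, h₂]

/-- The action of a line group is nontrivial on the function field. -/
theorem psi_ne_const {G X : Over (Spec (CommRingCat.of K))} [GrpObj G] [IsAffine G.left] [Smooth G.hom]
    [IsIntegral X.left] [IsSeparated X.hom] {F : Type u} [Field F] [Algebra K F] {x₀ : sp K F ⟶ X}
    (hgen : x₀.left (IsLocalRing.closedPoint F) = genericPoint X.left) (a : AlgGrp.Action G X) (ha : a.act ≠ snd G X)
    (L : LineCoord G) {ψ : F →ₐ[K] RatFunc F} (hψ : IsPsi a x₀ L ψ) (g₁ : sp K (RatFunc F) ⟶ G)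
    (hg₁ : co L.t g₁ = RatFunc.X)
    (hinj : Function.Injective (ev (lift g₁ (spMap (IsScalarTower.toAlgHom K F (RatFunc F))) : sp K (RatFunc F) ⟶ G ⊗ sp K F))) :
    ∃ f : F, ψ f ≠ RatFunc.C f := by
  by_contra hne
  push Not at hne
  refine ha (Over.OverMorphism.ext ?_)
  let ι₁ : F →ₐ[K] RatFunc F := IsScalarTower.toAlgHom K F (RatFunc F)
  have hψι : ψ = ι₁ := AlgHom.ext hne
  let h : sp K (RatFunc F) ⟶ G ⊗ sp K F := lift g₁ (spMap ι₁)
  let gen : sp K (RatFunc F) ⟶ G ⊗ X := h ≫ (G ◁ x₀)
  have hgen' : gen = lift g₁ (spMap ι₁ ≫ x₀) := by simp [gen, h]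
  have hU : gen ≫ a.act = gen ≫ snd G X := by
    rw [hgen', hψ g₁ hg₁, lift_snd, hψι]
  haveI : IsAffine (sp K F).left := isAffine_Spec _
  haveI : IsAffine (G ⊗ sp K F).left := by
    haveI : IsAffineHom (pullback.snd G.hom (sp K F).hom) := inferInstance
    exact isAffine_of_isAffineHom (pullback.snd G.hom (sp K F).hom)
  haveI : IsDominant h.left := by
    haveI : IsAffine (sp K (RatFunc F)).left := isAffine_Spec _
    have h1 : DenseRange (Spec.map h.left.appTop) := by
      show DenseRange (PrimeSpectrum.comap h.left.appTop.hom)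
      rw [PrimeSpectrum.denseRange_comap_iff_ker_le_nilRadical]
      intro z hz
      have : z = 0 := hinj (hz.trans (map_zero _).symm)
      simp [this]
    have e : h.left = (sp K (RatFunc F)).left.isoSpec.hom ≫ Spec.map h.left.appTop ≫ (G ⊗ sp K F).left.isoSpec.inv := by
      rw [← Category.assoc, Scheme.isoSpec_hom_naturality, Category.assoc, Iso.hom_inv_id, Category.comp_id]
    rw [e]
    haveI : IsDominant (Spec.map h.left.appTop) := ⟨h1⟩
    infer_instance
  haveI : GeometricallyReduced G.hom := GrpSchLib.geometricallyReduced_of_smooth G.hom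
  haveI : AlgebraicGeometry.IsReduced (G ⊗ X).left := FBaseLib.isReduced_pullback G.hom X.hom
  haveI : Flat (snd G X).left := inferInstanceAs (Flat (pullback.snd G.hom X.hom))
  haveI : IsDominant gen.left := by
    refine ⟨?_⟩
    rw [denseRange_iff_closure_range, Set.eq_univ_iff_forall]
    intro y
    obtain ⟨w, hw, hwy⟩ := BddFinSmooth.exists_isMaxPt_specializes y
    refine closure_minimal (Set.singleton_subset_iff.mpr ?_) isClosed_closure (specializes_iff_mem_closure.mp hwy)
    have h2 : (snd G X).left w = x₀.left (IsLocalRing.closedPoint F) :=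
      (BddFinSmooth.map_eq_genericPoint _ hw).trans hgen.symm
    obtain ⟨z, hz, -⟩ := Scheme.exists_preimage_of_isPullback (isPullback_whiskerLeft' (G := G) x₀) w _ h2
    have hd : z ∈ closure (Set.range h.left) := by rw [h.left.denseRange.closure_range]; trivial
    rw [← hz]
    refine closure_mono ?_ (image_closure_subset_closure_image (G ◁ x₀).left.continuous ⟨z, hd, rfl⟩)
    rintro _ ⟨_, ⟨q, rfl⟩, rfl⟩
    exact ⟨q, rfl⟩
  exact ext_of_isDominant_of_isSeparated X.hom ((Over.w a.act).trans (Over.w (snd G X)).symm) gen.left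
    (congrArg CommaMorphism.left hU)

/-- The function field as a `K`-algebra. -/
noncomputable def ffHom (X : Over (Spec (CommRingCat.of K))) [IsIntegral X.left] : CommRingCat.of K ⟶ X.left.functionField :=
  Spec.preimage (X.left.fromSpecStalk (genericPoint X.left) ≫ X.hom)

theorem splitting_of_coord {G X : Over (Spec (CommRingCat.of K))} [GrpObj G] [IsAffine G.left] [Smooth G.hom]
    [IsIntegral X.left] [LocallyOfFiniteType X.hom] [IsSeparated X.hom] (a : AlgGrp.Action G X) (ha : a.act ≠ snd G X)
    (L : LineCoord G) (he : L.e = 0 ∨ L.e = 1)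
    (hinj : ∀ (F : Type u) [Field F] [Algebra K F] (g₁ : sp K (RatFunc F) ⟶ G), co L.t g₁ = RatFunc.X →
      Function.Injective (ev (lift g₁ (spMap (IsScalarTower.toAlgHom K F (RatFunc F))) : sp K (RatFunc F) ⟶ G ⊗ sp K F)))
    (hsplit : ∀ (F : Type u) [Field F] [Algebra K F] (ψ : F →ₐ[K] RatFunc F),
      (∀ f : F, (ψ f).denom.eval (algebraMap K F L.e) ≠ 0 ∧
        f = (ψ f).num.eval (algebraMap K F L.e) / (ψ f).denom.eval (algebraMap K F L.e)) →
      (∀ (σ : Polynomial (RatFunc F) →+* Polynomial (RatFunc F)), Function.Injective σ →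
        (∀ c, σ (Polynomial.C c) = Polynomial.C c) →
        algebraMap _ (RatFunc (RatFunc F)) (σ Polynomial.X) =
          L.op (RatFunc.X : RatFunc (RatFunc F)) (RatFunc.C (RatFunc.X : RatFunc F)) →
        ∀ f, ((ψ f).num).map (ψ : F →+* RatFunc F) * σ ((ψ f).denom.map RatFunc.C) =
          ((ψ f).denom).map (ψ : F →+* RatFunc F) * σ ((ψ f).num.map RatFunc.C)) →
      (∃ f : F, ψ f ≠ RatFunc.C f) → ∃ s : F, IsSplitBy (ψ : F →+* RatFunc F) s) :
    ∃ (Y : Over (Spec (CommRingCat.of K))) (_ : IsIntegral Y.left) (_ : LocallyOfFiniteType Y.hom)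
      (U : X.left.Opens) (V : (𝔸(ULift.{u} (Fin 1); Y.left)).Opens), (U : Set X.left).Nonempty ∧
      Nonempty (Over.mk (U.ι ≫ X.hom) ≅
        Over.mk (V.ι ≫ (𝔸(ULift.{u} (Fin 1); Y.left) ↘ Y.left) ≫ Y.hom)) := by
  letI : Algebra K X.left.functionField := (ffHom X).hom.toAlgebra
  have halg : Spec.map (CommRingCat.ofHom (algebraMap K X.left.functionField)) =
      X.left.fromSpecStalk (genericPoint X.left) ≫ X.hom := Spec.map_preimage _
  let x₀ : sp K X.left.functionField ⟶ X := Over.homMk (X.left.fromSpecStalk (genericPoint X.left)) halg.symm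
  have hgen : x₀.left (IsLocalRing.closedPoint X.left.functionField) = genericPoint X.left :=
    X.left.fromSpecStalk_closedPoint
  have hx : Factors x₀ := by
    refine ⟨inferInstanceAs (Mono (X.left.fromSpecStalk (genericPoint X.left))), fun R _ _ _ y hy => ?_, fun x hx => ?_⟩
    · rw [hgen] at hy
      obtain ⟨φ, hφ⟩ : ∃ φ : X.left.functionField ⟶ CommRingCat.of R,
          Spec.map φ ≫ X.left.fromSpecStalk (genericPoint X.left) = y.left := by
        have key : ∀ x, y.left (IsLocalRing.closedPoint R) = x →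
            ∃ φ : X.left.presheaf.stalk x ⟶ CommRingCat.of R, Spec.map φ ≫ X.left.fromSpecStalk x = y.left := by
          rintro x rfl
          exact ⟨_, Scheme.Spec_stalkClosedPointTo_fromSpecStalk (R := CommRingCat.of R) y.left⟩
        exact key _ hy
      have hc : CommRingCat.ofHom (algebraMap K X.left.functionField) ≫ φ = CommRingCat.ofHom (algebraMap K R) := by
        apply Spec.map_injective
        rw [Spec.map_comp, halg, ← Category.assoc, hφ]
        exact Over.w y
      exact ⟨AlgHom.mk φ.hom (fun c => congr($hc c)), Over.OverMorphism.ext hφ⟩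
    · rw [hgen] at hx ⊢
      exact (Specializes.antisymm hx (genericPoint_specializes x)).eq
  obtain ⟨ψ, hψ, hε⟩ := exists_psi (a := a) hx L he
  obtain ⟨g₁, hg₁⟩ := L.exists_pt (RatFunc.X : RatFunc X.left.functionField) (Or.inr (Ne.isUnit RatFunc.X_ne_zero))
  obtain ⟨s, hs1, hs2⟩ := hsplit _ ψ hε (fun σ h1 h2 h3 f => cocycle hx L he hψ σ h1 h2 h3 f)
    (psi_ne_const hgen a ha L hψ g₁ hg₁ (hinj _ g₁ hg₁))
  refine exists_model X halg (invariants (ψ : X.left.functionField →+* RatFunc X.left.functionField))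
    (fun c => ?_) s hs1 hs2
  rw [mem_invariants]
  exact (ψ.commutes c).trans rfl

end Groth.Agent.BddFinBirat
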